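import Groth.Agent.DevBCLib.Step
import Groth.Agent.DevLib.Ops
import Groth.Agent.DevissLib.Basis
import Groth.Agent.PolLawBCLib.Norm

/-!
# The maps from free modules after a change of the base
-/

set_option autoImplicit false
set_option linter.style.haveILetI false
set_option backward.isDefEq.respectTransparency false
set_option backward.isDefEq.respectTransparency.types false
set_option maxHeartbeats 1000000
set_option synthInstance.maxHeartbeats 200000

universe u

open TensorProduct

noncomputable section

namespace Groth.Agent.DevBCLib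

attribute [local instance] Algebra.TensorProduct.rightAlgebra

/-- A map from a free module, bijective at a prime, after a change of rings. -/
theorem exists_alpha_of_comap {B B' : Type u} [CommRing B] [CommRing B'] [Algebra B B'] (P : Ideal B) [P.IsPrime]
    (P' : Ideal B') [P'.IsPrime] (hPP : P'.comap (algebraMap B B') = P)
    {M M' : Type u} [AddCommGroup M] [Module B M] [AddCommGroup M'] [Module B' M'] [Module B M'] [IsScalarTower B B' M']
    {r : ℕ} (α : (Fin r → B) →ₗ[B] M) (hα : Function.Bijective (α.baseChange P.ResidueField))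
    (g : M →ₗ[B] M') (hg : IsBaseChange B' g) :
    ∃ α' : (Fin r → B') →ₗ[B'] M', LinearMap.range α' = Submodule.span B' (g '' (LinearMap.range α : Set M)) ∧
      Function.Bijective (α'.baseChange P'.ResidueField) := by
  letI : Algebra P.ResidueField P'.ResidueField :=
    (Ideal.ResidueField.mapₐ P P' (Algebra.ofId B B') hPP.symm).toRingHom.toAlgebra
  haveI : IsScalarTower B P.ResidueField P'.ResidueField :=
    .of_algebraMap_eq fun b => ((Ideal.ResidueField.mapₐ P P' (Algebra.ofId B B') hPP.symm).commutes b).symm
  let eF : (Fin r → B') ≃ₗ[B'] B' ⊗[B] (Fin r → B) := (TensorProduct.piScalarRight B B' B' (Fin r)).symm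
  refine ⟨hg.equiv.toLinearMap ∘ₗ α.baseChange B' ∘ₗ eF.toLinearMap, ?_,
    DevLib.bijective_baseChange_equiv (DevLib.bijective_baseChange_comp (DevLib.bijective_baseChange_field hα)) eF hg.equiv⟩
  refine le_antisymm ?_ (Submodule.span_le.2 ?_)
  · rintro _ ⟨x, rfl⟩
    show hg.equiv (α.baseChange B' (eF x)) ∈ _
    induction eF x using TensorProduct.induction_on with
    | zero => simp
    | add a b ha hb => rw [map_add, map_add]; exact Submodule.add_mem _ ha hb
    | tmul c v =>
      rw [LinearMap.baseChange_tmul, IsBaseChange.equiv_tmul]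
      exact Submodule.smul_mem _ _ (Submodule.subset_span ⟨_, ⟨v, rfl⟩, rfl⟩)
  · rintro _ ⟨_, ⟨v, rfl⟩, rfl⟩
    refine ⟨eF.symm ((1 : B') ⊗ₜ[B] v), ?_⟩
    show hg.equiv (α.baseChange B' (eF (eF.symm ((1 : B') ⊗ₜ[B] v)))) = _
    rw [LinearEquiv.apply_symm_apply, LinearMap.baseChange_tmul, IsBaseChange.equiv_tmul, one_smul]

variable {R R' B B' : Type u} [CommRing R] [CommRing R'] [CommRing B] [CommRing B'] [Algebra R R'] [Algebra R B]
  [Algebra R' B'] [Algebra R B'] [Algebra B B'] [IsScalarTower R R' B'] [IsScalarTower R B B'] [Algebra.IsPushout R R' B B']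
  (p : Ideal R) [p.IsPrime] (p' : Ideal R') [p'.IsPrime] [p'.LiesOver p]

/-- The extended primes correspond. -/
theorem comap_map_prime [Algebra.Smooth R B] (h : FlatCA.GeomIrredFibres R B) :
    (p'.map (algebraMap R' B')).comap (algebraMap B B') = p.map (algebraMap R B) := by
  haveI := DevLib.isPrime_map h p
  haveI := DevissLib.liesOver_map h p
  obtain ⟨-, hker⟩ := DevissLib.fibre_domain p (D := B)
  refine le_antisymm (fun b hb => hker b ?_) ?_
  · letI : Algebra p.ResidueField p'.ResidueField := (kappaMap p p').toRingHom.toAlgebra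
    letI : Algebra (p.Fiber B) (p'.Fiber B') := (fibBC p p' B B').toRingHom.toAlgebra
    obtain ⟨_, _, hpo⟩ := isPushout_fibBC p p' B B'
    haveI := hpo
    have h0 : CAlgFib.ι (S := B') p' (algebraMap B B' b) = 0 :=
      (show p'.map (algebraMap R' B') ≤ RingHom.ker (CAlgFib.ι (S := B') p') from
        Ideal.map_le_iff_le_comap.2 fun r hr => CAlgFib.ι_eq_zero p' hr) hb
    rw [← fibBC_ι p p' B B'] at h0
    have hinj : Function.Injective (fibBC p p' B B') := by
      have h1 : ⇑(fibBC p p' B B') = Algebra.IsPushout.equiv p.ResidueField p'.ResidueField (p.Fiber B) (p'.Fiber B') ∘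
          TensorProduct.mk p.ResidueField p'.ResidueField (p.Fiber B) 1 := funext fun x => by
        rw [Function.comp_apply, TensorProduct.mk_apply, Algebra.IsPushout.equiv_tmul, map_one, one_mul]
        rfl
      rw [h1]
      haveI : Module.Free p.ResidueField (p.Fiber B) := Module.Free.of_divisionRing p.ResidueField (p.Fiber B)
      haveI : Module.Flat p.ResidueField (p.Fiber B) := Module.Flat.of_free
      exact (AlgEquiv.injective _).comp (Algebra.TensorProduct.includeRight_injective
        (A := p'.ResidueField) (B := p.Fiber B) (algebraMap p.ResidueField p'.ResidueField).injective)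
    exact (map_eq_zero_iff _ hinj).1 h0
  · refine Ideal.map_le_iff_le_comap.2 fun a ha => ?_
    show algebraMap B B' (algebraMap R B a) ∈ p'.map (algebraMap R' B')
    rw [← IsScalarTower.algebraMap_apply R B B', IsScalarTower.algebraMap_apply R R' B']
    exact Ideal.mem_map_of_mem _ ((p'.over_def p).le ha)

/-- A map from a free module, bijective at the generic point of the fibre, after a change of the base. -/
theorem exists_alpha_bc [Algebra.Smooth R B] (h : FlatCA.GeomIrredFibres R B)
    [(p.map (algebraMap R B)).IsPrime] [(p'.map (algebraMap R' B')).IsPrime]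
    {M M' : Type u} [AddCommGroup M] [Module B M] [AddCommGroup M'] [Module B' M'] [Module B M'] [IsScalarTower B B' M']
    {r : ℕ} (α : (Fin r → B) →ₗ[B] M) (hα : Function.Bijective (α.baseChange (p.map (algebraMap R B)).ResidueField))
    (g : M →ₗ[B] M') (hg : IsBaseChange B' g) :
    ∃ α' : (Fin r → B') →ₗ[B'] M', LinearMap.range α' = Submodule.span B' (g '' (LinearMap.range α : Set M)) ∧
      Function.Bijective (α'.baseChange (p'.map (algebraMap R' B')).ResidueField) := by
  exact exists_alpha_of_comap _ _ (comap_map_prime (B' := B') p p' h) α hα g hg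

end Groth.Agent.DevBCLib
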