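import Groth.Agent.DevBCLib.Fiber
import Groth.Agent.DevLib.MainAux

/-!
# Fibre supports after shrinking to basic opens
-/

set_option autoImplicit false
set_option linter.style.haveILetI false
set_option backward.isDefEq.respectTransparency false
set_option backward.isDefEq.respectTransparency.types false
set_option maxHeartbeats 1000000
set_option synthInstance.maxHeartbeats 200000

universe u

open Topology TopologicalSpace

noncomputable section

namespace Groth.Agent.DevBCLib

attribute [local instance] Algebra.TensorProduct.rightAlgebra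

/-- Local dimension is computed on any open subspace. -/
theorem localDim_openEmbedding {X Y : Type u} [TopologicalSpace X] [TopologicalSpace Y] {j : X → Y}
    (hj : IsOpenEmbedding j) (x : X) : FlatMor.localDim X x = FlatMor.localDim Y (j x) := by
  refine le_antisymm (le_iInf fun O => ?_) (le_iInf fun V => ?_)
  · refine iInf_le_of_le ⟨⟨j ⁻¹' (O.1 : Set Y), O.1.isOpen.preimage hj.continuous⟩, O.2⟩ ?_
    exact IsInducing.topologicalKrullDim_le (hj.isEmbedding.restrict (t := (O.1 : Set Y)) (fun _ h => h)).isInducing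
  · refine iInf_le_of_le ⟨⟨j '' (V.1 : Set X), hj.isOpenMap _ V.1.isOpen⟩, x, V.2, rfl⟩ ?_
    let e : (V.1 : Set X) ≃ₜ (j '' (V.1 : Set X)) := hj.isEmbedding.homeomorphImage _
    exact (IsHomeomorph.topologicalKrullDim_eq e e.isHomeomorph).ge

variable {R : Type u} [CommRing R] (p : Ideal R) [p.IsPrime] (S : Type u) [CommRing S] [Algebra R S]
  (N : Type u) [AddCommGroup N] [Module S N] [Module R N] [IsScalarTower R S N]

/-- The point of `Spec S` below a point of the fibre support. -/
def suppPoint (x : Module.support (p.Fiber S) (FlatCA.fiberMod p S N)) : PrimeSpectrum S :=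
  PrimeSpectrum.comap (CAlgFib.ι (S := S) p) x.1

theorem isEmbedding_suppPoint : IsEmbedding (suppPoint p S N) :=
  (IsEmbedding.subtypeVal.comp (PrimeSpectrum.preimageHomeomorphFiber R S ⟨p, inferInstance⟩).symm.isEmbedding).comp
    IsEmbedding.subtypeVal

theorem range_suppPoint [Module.Finite S N] : Set.range (suppPoint p S N) =
    Module.support S N ∩ PrimeSpectrum.comap (algebraMap R S) ⁻¹' {⟨p, inferInstance⟩} := by
  ext P
  constructor
  · rintro ⟨⟨x, hx⟩, rfl⟩
    refine ⟨?_, PrimeSpectrum.ext (FibAssLib.comap_liesOver p x.asIdeal).over.symm⟩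
    rw [support_fiberMod_eq p S N, PrimeSpectrum.mem_zeroLocus, SetLike.coe_subset_coe, Ideal.map_le_iff_le_comap] at hx
    rw [Module.support_eq_zeroLocus]
    exact hx
  · rintro ⟨hP, hPp⟩
    haveI : P.asIdeal.LiesOver p := ⟨(congrArg PrimeSpectrum.asIdeal hPp).symm⟩
    obtain ⟨hprime, hcomap⟩ := FibAssLib.fiberIdeal_spec p P.asIdeal
    refine ⟨⟨⟨_, hprime⟩, ?_⟩, PrimeSpectrum.ext hcomap⟩
    rw [Module.support_eq_zeroLocus] at hP
    rw [support_fiberMod_eq p S N, PrimeSpectrum.mem_zeroLocus, SetLike.coe_subset_coe, Ideal.map_le_iff_le_comap]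
    exact hP.trans hcomap.ge

variable {R' : Type u} [CommRing R'] [Algebra R R'] (S' : Type u) [CommRing S'] [Algebra R' S'] [Algebra R S'] [Algebra S S']
  [IsScalarTower R R' S'] [IsScalarTower R S S'] (p' : Ideal R') [p'.IsPrime] [p'.LiesOver p]
  (N' : Type u) [AddCommGroup N'] [Module S' N'] [Module S N'] [IsScalarTower S S' N'] [Module R' N'] [IsScalarTower R' S' N']

/-- The fibre support after shrinking is an open piece of the fibre support. -/
theorem exists_openEmbedding_supp [Module.Finite S N] (M : Submonoid R) [IsLocalization M R'] (s : S)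
    [IsLocalization.Away s S'] (f : N →ₗ[S] N') (hf : IsBaseChange S' f) :
    ∃ j : Module.support (p'.Fiber S') (FlatCA.fiberMod p' S' N') → Module.support (p.Fiber S) (FlatCA.fiberMod p S N),
      IsOpenEmbedding j ∧ ∀ x, suppPoint p S N (j x) = PrimeSpectrum.comap (algebraMap S S') (suppPoint p' S' N' x) := by
  haveI : Module.Finite S' N' := Module.Finite.equiv hf.equiv
  have hsupp : Module.support S' N' = PrimeSpectrum.comap (algebraMap S S') ⁻¹' Module.support S N := by
    ext P
    rw [← hf.equiv.support_eq, AssSupLib.support_baseChange, Set.mem_preimage, Module.support_eq_zeroLocus,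
      PrimeSpectrum.mem_zeroLocus, PrimeSpectrum.mem_zeroLocus, SetLike.coe_subset_coe, SetLike.coe_subset_coe,
      Ideal.map_le_iff_le_comap]
    rfl
  have hp : ∀ P : PrimeSpectrum S',
      PrimeSpectrum.comap (algebraMap R S) (PrimeSpectrum.comap (algebraMap S S') P) = ⟨p, inferInstance⟩ ↔
        PrimeSpectrum.comap (algebraMap R' S') P = ⟨p', inferInstance⟩ := fun P => by
    rw [← PrimeSpectrum.comap_comp_apply, ← IsScalarTower.algebraMap_eq, IsScalarTower.algebraMap_eq R R' S',
      PrimeSpectrum.comap_comp_apply,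
      show (⟨p, inferInstance⟩ : PrimeSpectrum R) = PrimeSpectrum.comap (algebraMap R R') ⟨p', inferInstance⟩ from
        PrimeSpectrum.ext (p'.over_def p)]
    exact (PrimeSpectrum.localization_comap_injective R' M).eq_iff
  have hmem : ∀ x, PrimeSpectrum.comap (algebraMap S S') (suppPoint p' S' N' x) ∈ Set.range (suppPoint p S N) := by
    intro x
    have h := (range_suppPoint p' S' N').le ⟨x, rfl⟩
    rw [range_suppPoint p S N]
    exact ⟨hsupp.le h.1, (hp _).2 h.2⟩
  let j := fun x => (hmem x).choose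
  have hjspec : ∀ x, suppPoint p S N (j x) = PrimeSpectrum.comap (algebraMap S S') (suppPoint p' S' N' x) := fun x =>
    (hmem x).choose_spec
  have hc := PrimeSpectrum.localization_away_isOpenEmbedding S' s
  have hemb : IsEmbedding j := (isEmbedding_suppPoint p S N).of_comp_iff.1 (by
    rw [show suppPoint p S N ∘ j = PrimeSpectrum.comap (algebraMap S S') ∘ suppPoint p' S' N' from funext hjspec]
    exact hc.isEmbedding.comp (isEmbedding_suppPoint p' S' N'))
  refine ⟨j, ⟨hemb, ?_⟩, hjspec⟩
  have hr : Set.range j = suppPoint p S N ⁻¹' Set.range (PrimeSpectrum.comap (algebraMap S S')) := by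
    ext y
    constructor
    · rintro ⟨x, rfl⟩
      exact ⟨_, (hjspec x).symm⟩
    · rintro ⟨P, hP⟩
      have hy := (range_suppPoint p S N).le ⟨y, rfl⟩
      rw [← hP] at hy
      obtain ⟨x, hx⟩ := (range_suppPoint p' S' N').ge ⟨hsupp.ge hy.1, (hp P).1 hy.2⟩
      exact ⟨x, (isEmbedding_suppPoint p S N).injective (by rw [hjspec, hx, hP])⟩
  rw [hr]
  exact hc.isOpen_range.preimage (isEmbedding_suppPoint p S N).continuous

/-- Local dimension of the fibre support after shrinking. -/
theorem locDim_away [Module.Finite S N] (M : Submonoid R) [IsLocalization M R'] (s : S)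
    [IsLocalization.Away s S'] (f : N →ₗ[S] N') (hf : IsBaseChange S' f)
    (q : Ideal S) [q.IsPrime] (q' : Ideal S') [q'.IsPrime] [q'.LiesOver q] [q'.LiesOver p'] {n : WithBot ℕ∞}
    (h : ∃ (ξ : PrimeSpectrum (p.Fiber S)) (hξ : ξ ∈ Module.support (p.Fiber S) (FlatCA.fiberMod p S N)),
      ξ.asIdeal = FlatCA.fiberIdeal p q ∧
      FlatMor.localDim (Module.support (p.Fiber S) (FlatCA.fiberMod p S N)) ⟨ξ, hξ⟩ = n)
    : ∃ (ξ' : PrimeSpectrum (p'.Fiber S')) (hξ' : ξ' ∈ Module.support (p'.Fiber S') (FlatCA.fiberMod p' S' N')),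
      ξ'.asIdeal = FlatCA.fiberIdeal p' q' ∧
      FlatMor.localDim (Module.support (p'.Fiber S') (FlatCA.fiberMod p' S' N')) ⟨ξ', hξ'⟩ = n := by
  haveI : Module.Finite S' N' := Module.Finite.equiv hf.equiv
  obtain ⟨j, hj, hjspec⟩ := exists_openEmbedding_supp p S N S' p' N' M s f hf
  obtain ⟨ξ, hξ, hξq, hn⟩ := h
  have hqp : q.LiesOver p := ⟨by
    rw [q'.over_def q, Ideal.under_def, Ideal.under_def, Ideal.comap_comap, ← IsScalarTower.algebraMap_eq,
      IsScalarTower.algebraMap_eq R R' S', ← Ideal.comap_comap, show q'.comap (algebraMap R' S') = p' from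
      (q'.over_def p').symm]
    exact p'.over_def p⟩
  haveI := hqp
  obtain ⟨hq'prime, hq'ι⟩ := FibAssLib.fiberIdeal_spec p' q'
  obtain ⟨-, hqι⟩ := FibAssLib.fiberIdeal_spec p q
  have hξ' : (⟨_, hq'prime⟩ : PrimeSpectrum (p'.Fiber S')) ∈
      Module.support (p'.Fiber S') (FlatCA.fiberMod p' S' N') := by
    have hP := (range_suppPoint p S N).le ⟨⟨ξ, hξ⟩, rfl⟩
    have hq : (⟨q', inferInstance⟩ : PrimeSpectrum S') ∈ Module.support S' N' := by
      rw [← hf.equiv.support_eq, AssSupLib.support_baseChange, PrimeSpectrum.mem_zeroLocus, SetLike.coe_subset_coe,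
        Ideal.map_le_iff_le_comap]
      have h1 := hP.1
      rw [Module.support_eq_zeroLocus] at h1
      refine le_trans (SetLike.coe_subset_coe.1 h1) (le_of_eq ?_)
      show ξ.asIdeal.comap _ = _
      rw [hξq, hqι]
      exact q'.over_def q
    rw [support_fiberMod_eq p' S' N', PrimeSpectrum.mem_zeroLocus, SetLike.coe_subset_coe, Ideal.map_le_iff_le_comap,
      show (⟨_, hq'prime⟩ : PrimeSpectrum (p'.Fiber S')).asIdeal = FlatCA.fiberIdeal p' q' from rfl, hq'ι]
    rw [Module.support_eq_zeroLocus] at hq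
    exact hq
  have hjξ : j ⟨_, hξ'⟩ = ⟨ξ, hξ⟩ := (isEmbedding_suppPoint p S N).injective (PrimeSpectrum.ext (by
    rw [hjspec]
    show ((FlatCA.fiberIdeal p' q').comap _).comap (algebraMap S S') = ξ.asIdeal.comap _
    rw [hq'ι, hξq, hqι]
    exact (q'.over_def q).symm))
  have hloc : FlatMor.localDim (Module.support (p'.Fiber S') (FlatCA.fiberMod p' S' N')) ⟨_, hξ'⟩ = n := by
    rw [localDim_openEmbedding hj, hjξ, hn]
  exact ⟨_, hξ', rfl, hloc⟩

/-- Dimension and local dimension of the fibre support after shrinking. -/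
theorem supportDim_locDim_away [Module.Finite S N] (M : Submonoid R) [IsLocalization M R'] (s : S)
    [IsLocalization.Away s S'] (f : N →ₗ[S] N') (hf : IsBaseChange S' f)
    (q : Ideal S) [q.IsPrime] (q' : Ideal S') [q'.IsPrime] [q'.LiesOver q] [q'.LiesOver p'] {n : WithBot ℕ∞}
    (h : ∃ (ξ : PrimeSpectrum (p.Fiber S)) (hξ : ξ ∈ Module.support (p.Fiber S) (FlatCA.fiberMod p S N)),
      ξ.asIdeal = FlatCA.fiberIdeal p q ∧
      FlatMor.localDim (Module.support (p.Fiber S) (FlatCA.fiberMod p S N)) ⟨ξ, hξ⟩ = n)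
    (hdim : Module.supportDim (p.Fiber S) (FlatCA.fiberMod p S N) = n) :
    Module.supportDim (p'.Fiber S') (FlatCA.fiberMod p' S' N') = n ∧
    ∃ (ξ' : PrimeSpectrum (p'.Fiber S')) (hξ' : ξ' ∈ Module.support (p'.Fiber S') (FlatCA.fiberMod p' S' N')),
      ξ'.asIdeal = FlatCA.fiberIdeal p' q' ∧
      FlatMor.localDim (Module.support (p'.Fiber S') (FlatCA.fiberMod p' S' N')) ⟨ξ', hξ'⟩ = n := by
  haveI : Module.Finite S' N' := Module.Finite.equiv hf.equiv
  obtain ⟨ξ', hξ', hq', hloc⟩ := locDim_away p S N S' p' N' M s f hf q q' h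
  obtain ⟨j, hj, -⟩ := exists_openEmbedding_supp p S N S' p' N' M s f hf
  refine ⟨le_antisymm ?_ ?_, _, hξ', hq', hloc⟩
  · rw [← hdim, ← DevLib.topologicalKrullDim_support, ← DevLib.topologicalKrullDim_support]
    exact IsInducing.topologicalKrullDim_le hj.isInducing
  · rw [← DevLib.topologicalKrullDim_support, ← hloc]
    exact iInf_le_of_le ⟨⊤, trivial⟩ (topologicalKrullDim_subspace_le _ _)

end Groth.Agent.DevBCLib
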