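import Groth.Agent.DevBCLib.ShrinkComplete

/-!
# Compatible elements along a complete dévissage
-/

set_option autoImplicit false
set_option linter.style.haveILetI false
set_option backward.isDefEq.respectTransparency false
set_option backward.isDefEq.respectTransparency.types false

universe u

noncomputable section

namespace Groth.Agent.DevBCLib

variable {R S : Type u} [CommRing R] [CommRing S] [Algebra R S] {N : Type u} [AddCommGroup N] [Module S N]
  {p : Ideal R} [p.IsPrime] {q : Ideal S} [q.IsPrime] {𝒟 : FlatCA.CompleteDevissage R S N p}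
  (𝒜 : FlatCA.CompleteDevissageAt R S N p q 𝒟)

/-- A family compatible along the steps from `i` on. -/
def IsChainFrom (i : ℕ) (c : ∀ j, 𝒟.B j) : Prop :=
  (∀ j, i ≤ j → j < 𝒟.n → c j ∉ 𝒜.qB j) ∧ ∀ j, i ≤ j → j + 1 < 𝒟.n →
    algebraMap (𝒟.B j) (𝒟.A (j + 1)) (c j) = algebraMap (𝒟.B (j + 1)) (𝒟.A (j + 1)) (c (j + 1))

theorem notMem_of_compat {i : ℕ} (hi : i + 1 < 𝒟.n) {x : 𝒟.B i} {y : 𝒟.B (i + 1)}
    (h : algebraMap (𝒟.B i) (𝒟.A (i + 1)) x = algebraMap (𝒟.B (i + 1)) (𝒟.A (i + 1)) y) (hy : y ∉ 𝒜.qB (i + 1)) :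
    x ∉ 𝒜.qB i := by
  intro hx
  rw [← 𝒜.qStep i hi, Ideal.mem_comap, h] at hx
  haveI := 𝒜.overA (i + 1)
  exact hy ((Ideal.mem_of_liesOver (𝒜.qA (i + 1)) (𝒜.qB (i + 1)) y).2 hx)

theorem isChainFrom_update [DecidableEq ℕ] {i : ℕ} {c : ∀ j, 𝒟.B j} (hc : IsChainFrom 𝒜 (i + 1) c) (hi : i + 1 < 𝒟.n)
    {x : 𝒟.B i} (h : algebraMap (𝒟.B i) (𝒟.A (i + 1)) x = algebraMap (𝒟.B (i + 1)) (𝒟.A (i + 1)) (c (i + 1))) :
    IsChainFrom 𝒜 i (Function.update c i x) := by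
  refine ⟨fun j hij hj => ?_, fun j hij hj => ?_⟩
  · rcases hij.eq_or_lt with rfl | hlt
    · rw [Function.update_self]
      exact notMem_of_compat 𝒜 hi h (hc.1 (i + 1) le_rfl hi)
    · rw [Function.update_of_ne hlt.ne']
      exact hc.1 j hlt hj
  · rw [Function.update_of_ne (show j + 1 ≠ i by omega)]
    rcases hij.eq_or_lt with rfl | hlt
    · rw [Function.update_self]
      exact h
    · rw [Function.update_of_ne hlt.ne']
      exact hc.2 j hlt hj

theorem isChainFrom_last [DecidableEq ℕ] {i : ℕ} (hi : i + 1 = 𝒟.n) {w : 𝒟.B i} (hw : w ∉ 𝒜.qB i) (c : ∀ j, 𝒟.B j) :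
    IsChainFrom 𝒜 i (Function.update c i w) := by
  refine ⟨fun j hij hj => ?_, fun j hij hj => absurd hj (by omega)⟩
  obtain rfl : j = i := by omega
  rwa [Function.update_self]

/-- A chain ending at a given element of the last smooth algebra. -/
theorem exists_chain_last (w : 𝒟.B (𝒟.n - 1)) (hw : w ∉ 𝒜.qB (𝒟.n - 1)) :
    ∀ k i, i + k + 1 = 𝒟.n → ∃ c, IsChainFrom 𝒜 i c ∧ c (𝒟.n - 1) = w := by
  classical
  intro k
  induction k with
  | zero =>
    intro i hi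
    obtain rfl : i = 𝒟.n - 1 := by omega
    exact ⟨_, isChainFrom_last 𝒜 (by omega) hw (fun j => 1), Function.update_self _ _ _⟩
  | succ k ih =>
    intro i hi
    obtain ⟨c, hc, hl⟩ := ih (i + 1) (by omega)
    obtain ⟨x, hx⟩ := 𝒟.surjBA' i (by omega) (algebraMap (𝒟.B (i + 1)) (𝒟.A (i + 1)) (c (i + 1)))
    exact ⟨_, isChainFrom_update 𝒜 hc (by omega) hx, by rw [Function.update_of_ne (show 𝒟.n - 1 ≠ i by omega), hl]⟩

/-- A chain starting at a multiple of a given element. -/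
theorem exists_chain_dvd : ∀ k i, i + k + 1 = 𝒟.n → ∀ e : 𝒟.B i, e ∉ 𝒜.qB i → ∃ c, IsChainFrom 𝒜 i c ∧ e ∣ c i := by
  classical
  intro k
  induction k with
  | zero =>
    intro i hi e he
    exact ⟨_, isChainFrom_last 𝒜 hi he (fun j => 1), by rw [Function.update_self]⟩
  | succ k ih =>
    intro i hi e he
    have hi' : i + 1 < 𝒟.n := by omega
    haveI := 𝒜.hqB (i + 1)
    haveI := 𝒜.hqA (i + 1)
    haveI := 𝒜.overA (i + 1)
    haveI := 𝒟.finiteBA (i + 1) hi'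
    have hne : algebraMap (𝒟.B i) (𝒟.A (i + 1)) e ∉ 𝒜.qA (i + 1) := fun hm => he ((𝒜.qStep i hi').le hm)
    obtain ⟨t, e', he', hte⟩ := DevissLib.exists_mul_eq_of_notMem (𝒜.qB (i + 1)) (𝒜.qA (i + 1)) (𝒜.uniq (i + 1) hi') hne
    obtain ⟨c, hc, m, hm⟩ := ih (i + 1) (by omega) e' he'
    obtain ⟨x, hx⟩ := 𝒟.surjBA' i hi' (t * algebraMap (𝒟.B (i + 1)) (𝒟.A (i + 1)) m)
    refine ⟨_, isChainFrom_update 𝒜 hc hi' (x := x * e) ?_, by rw [Function.update_self]; exact dvd_mul_left e x⟩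
    rw [map_mul, hx, hm, map_mul, mul_right_comm, hte]

end Groth.Agent.DevBCLib
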