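import Groth.Agent.DevBCLib.Alpha

/-!
# Base change of complete dévissages
-/

set_option autoImplicit false
set_option linter.style.haveILetI false
set_option backward.isDefEq.respectTransparency false
set_option backward.isDefEq.respectTransparency.types false
set_option maxHeartbeats 2000000
set_option synthInstance.maxHeartbeats 200000

universe u

open TensorProduct

noncomputable section

namespace Groth.Agent.DevBCLib

section Switch

variable (R' : Type u) [CommRing R'] (X : Type u) [CommRing X] [Algebra R' X]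

open Classical in
/-- The ideal selecting one of the two factors. -/
def selI (c : Prop) : Ideal (X × R') := if c then RingHom.ker (RingHom.fst X R') else RingHom.ker (RingHom.snd X R')

open Classical in
/-- The ideal keeping or killing an algebra. -/
def killI (c : Prop) : Ideal X := if c then ⊥ else ⊤

/-- An algebra, or the base itself. -/
abbrev Sel (c : Prop) : Type u := (X × R') ⧸ selI R' X c

/-- An algebra, or the zero ring. -/
abbrev Kill (c : Prop) : Type u := X ⧸ killI X c

variable {R' X} {Y : Type u} [CommRing Y] [Algebra R' Y] {c d : Prop}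

/-- The map between the switched algebras. -/
def selMap (f : X →ₐ[R'] Y) (hcd : d → c) : Sel R' X c →ₐ[R'] Kill Y d :=
  Ideal.Quotient.liftₐ (selI R' X c) (((Ideal.Quotient.mkₐ R' (killI Y d)).comp f).comp (AlgHom.fst R' X R')) fun z hz => by
    show Ideal.Quotient.mk (killI Y d) (f z.1) = 0
    rw [Ideal.Quotient.eq_zero_iff_mem]
    by_cases hd : d
    · rw [selI, if_pos (hcd hd), RingHom.mem_ker] at hz
      rw [show z.1 = 0 from hz, map_zero]
      exact zero_mem _
    · rw [killI, if_neg hd]
      exact Submodule.mem_top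

/-- The switched algebra is the algebra when the switch is on. -/
def selEquiv (hc : c) : Sel R' X c ≃ₐ[R'] X :=
  AlgEquiv.ofBijective (Ideal.Quotient.liftₐ (selI R' X c) (AlgHom.fst R' X R') fun z hz => by
      rw [selI, if_pos hc, RingHom.mem_ker] at hz
      exact hz) ⟨by
    rw [injective_iff_map_eq_zero]
    intro z hz
    obtain ⟨z, rfl⟩ := Ideal.Quotient.mk_surjective z
    rw [Ideal.Quotient.eq_zero_iff_mem, selI, if_pos hc, RingHom.mem_ker]
    exact hz, fun x => ⟨Ideal.Quotient.mk _ (x, 0), rfl⟩⟩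

theorem selMap_symm (f : X →ₐ[R'] Y) (hcd : d → c) (hc : c) (x : X) :
    selMap f hcd ((selEquiv (R' := R') (X := X) hc).symm x) = Ideal.Quotient.mk (killI Y d) (f x) := by
  have : (selEquiv (R' := R') (X := X) hc).symm x = Ideal.Quotient.mk (selI R' X c) (x, 0) :=
    (AlgEquiv.symm_apply_eq _).2 rfl
  rw [this]
  rfl

theorem kill_bijective (hc : c) : Function.Bijective (Ideal.Quotient.mkₐ R' (killI X c)) := by
  refine ⟨(injective_iff_map_eq_zero _).2 fun x hx => ?_, Ideal.Quotient.mkₐ_surjective _ _⟩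
  rw [Ideal.Quotient.mkₐ_eq_mk, Ideal.Quotient.eq_zero_iff_mem, killI, if_pos hc, Ideal.mem_bot] at hx
  exact hx

theorem subsingleton_kill (hc : ¬ c) : Subsingleton (Kill X c) := by
  rw [Ideal.Quotient.subsingleton_iff, killI, if_neg hc]

theorem isPrime_map_sel (hc : ¬ c) (P : Ideal R') [P.IsPrime] : (P.map (algebraMap R' (Sel R' X c))).IsPrime := by
  let π : Sel R' X c →ₐ[R'] R' := Ideal.Quotient.liftₐ (selI R' X c) (AlgHom.snd R' X R') fun z hz => by
    rw [selI, if_neg hc, RingHom.mem_ker] at hz
    exact hz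
  have hπ : Function.Bijective π := ⟨by
    rw [injective_iff_map_eq_zero]
    intro z hz
    obtain ⟨z, rfl⟩ := Ideal.Quotient.mk_surjective z
    rw [Ideal.Quotient.eq_zero_iff_mem, selI, if_neg hc, RingHom.mem_ker]
    exact hz, fun x => ⟨Ideal.Quotient.mk _ (0, x), rfl⟩⟩
  let e : Sel R' X c ≃ₐ[R'] R' := AlgEquiv.ofBijective π hπ
  have h : algebraMap R' (Sel R' X c) = e.symm.toRingEquiv.toRingHom := RingHom.ext fun x => (e.symm.commutes x).symm
  rw [h]
  exact Ideal.map_isPrime_of_equiv e.symm.toRingEquiv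

end Switch

section

attribute [local instance] Algebra.TensorProduct.rightAlgebra

variable {R S N : Type u} [CommRing R] [CommRing S] [Algebra R S] [AddCommGroup N] [Module S N] {p : Ideal R} [p.IsPrime]
  (𝒟 : FlatCA.CompleteDevissage R S N p) (R' : Type u) [CommRing R'] [Algebra R R']

/-- The smooth algebras after the change of the base. -/
abbrev bcB (i : ℕ) : Type u := Sel R' (R' ⊗[R] 𝒟.B i) (i < 𝒟.n)

/-- The algebras carrying the modules after the change of the base. -/
abbrev bcA (i : ℕ) : Type u := Kill (R' ⊗[R] 𝒟.A i) (i < 𝒟.n)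

/-- The modules after the change of the base. -/
abbrev bcM (i : ℕ) : Type u := bcA 𝒟 R' i ⊗[𝒟.A i] 𝒟.M i

/-- The finite maps after the change of the base. -/
def bcBA (i : ℕ) : bcB 𝒟 R' i →ₐ[R'] bcA 𝒟 R' i :=
  selMap (Algebra.TensorProduct.map (AlgHom.id R' R') (IsScalarTower.toAlgHom R (𝒟.B i) (𝒟.A i))) id

/-- The surjections to the next step after the change of the base. -/
def bcBA' (i : ℕ) : bcB 𝒟 R' i →ₐ[R'] bcA 𝒟 R' (i + 1) :=
  selMap (Algebra.TensorProduct.map (AlgHom.id R' R') (IsScalarTower.toAlgHom R (𝒟.B i) (𝒟.A (i + 1))))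
    fun h => Nat.lt_of_succ_lt h

variable {R'}

theorem isPushout_bcA {i : ℕ} (hi : i < 𝒟.n) : Algebra.IsPushout R R' (𝒟.A i) (bcA 𝒟 R' i) :=
  Algebra.IsPushout.of_equiv (h := (inferInstance : Algebra.IsPushout R R' (𝒟.A i) (R' ⊗[R] 𝒟.A i)))
    (AlgEquiv.ofBijective (Ideal.Quotient.mkₐ R' (killI (R' ⊗[R] 𝒟.A i) (i < 𝒟.n))) (kill_bijective hi))
    (RingHom.ext fun _ => rfl)

end

end Groth.Agent.DevBCLib
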