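import Groth.Agent.DevBCLib.Away
import Groth.Agent.FibreDimEt.Top

/-!
# Local dimensions of fibre supports along étale squares
-/

set_option autoImplicit false
set_option linter.style.haveILetI false
set_option backward.isDefEq.respectTransparency false
set_option backward.isDefEq.respectTransparency.types false
set_option maxHeartbeats 1000000
set_option synthInstance.maxHeartbeats 200000

universe u

open Topology TopologicalSpace

noncomputable section

namespace Groth.Agent.DevBCLib

variable {R : Type u} [CommRing R] (p : Ideal R) [p.IsPrime] (S : Type u) [CommRing S] [Algebra R S]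
  (N : Type u) [AddCommGroup N] [Module S N] [Module R N] [IsScalarTower R S N]
  {R' : Type u} [CommRing R'] [Algebra R R'] (S' : Type u) [CommRing S'] [Algebra R' S'] [Algebra R S'] [Algebra S S']
  [IsScalarTower R R' S'] [IsScalarTower R S S'] (p' : Ideal R') [p'.IsPrime] [p'.LiesOver p]
  (N' : Type u) [AddCommGroup N'] [Module S' N'] [Module S N'] [IsScalarTower S S' N'] [Module R' N'] [IsScalarTower R' S' N']

/-- The fibre support maps openly, with lifting generalisations, along an étale square. -/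
theorem exists_genLift_supp [Module.Finite S N] [Algebra.Etale R R'] [Algebra.Etale S S'] (f : N →ₗ[S] N')
    (hf : IsBaseChange S' f) :
    ∃ j : Module.support (p'.Fiber S') (FlatCA.fiberMod p' S' N') → Module.support (p.Fiber S) (FlatCA.fiberMod p S N),
      ASp.IsGenLift j ∧ IsOpenMap j ∧
        ∀ x, suppPoint p S N (j x) = PrimeSpectrum.comap (algebraMap S S') (suppPoint p' S' N' x) := by
  haveI : Module.Finite S' N' := Module.Finite.equiv hf.equiv
  haveI : Algebra.EssFiniteType R R' := inferInstance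
  haveI : Algebra.QuasiFinite R R' := inferInstance
  haveI : Algebra.QuasiFinite S S' := inferInstance
  have hsupp : Module.support S' N' = PrimeSpectrum.comap (algebraMap S S') ⁻¹' Module.support S N := by
    ext P
    rw [← hf.equiv.support_eq, AssSupLib.support_baseChange, Set.mem_preimage, Module.support_eq_zeroLocus,
      PrimeSpectrum.mem_zeroLocus, PrimeSpectrum.mem_zeroLocus, SetLike.coe_subset_coe, SetLike.coe_subset_coe,
      Ideal.map_le_iff_le_comap]
    rfl
  have hbase : ∀ P : PrimeSpectrum S', PrimeSpectrum.comap (algebraMap R S) (PrimeSpectrum.comap (algebraMap S S') P) =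
      PrimeSpectrum.comap (algebraMap R R') (PrimeSpectrum.comap (algebraMap R' S') P) := fun P => by
    rw [← PrimeSpectrum.comap_comp_apply, ← IsScalarTower.algebraMap_eq, IsScalarTower.algebraMap_eq R R' S',
      PrimeSpectrum.comap_comp_apply]
  have hpp : PrimeSpectrum.comap (algebraMap R R') ⟨p', inferInstance⟩ = (⟨p, inferInstance⟩ : PrimeSpectrum R) :=
    PrimeSpectrum.ext (p'.over_def p).symm
  have hψ := isEmbedding_suppPoint p S N
  have hψ' := isEmbedding_suppPoint p' S' N'
  have hr := range_suppPoint p S N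
  have hr' := range_suppPoint p' S' N'
  have hmem : ∀ x, PrimeSpectrum.comap (algebraMap S S') (suppPoint p' S' N' x) ∈ Set.range (suppPoint p S N) := by
    intro x
    have h := hr'.le ⟨x, rfl⟩
    rw [hr]
    refine ⟨hsupp.le h.1, ?_⟩
    rw [Set.mem_preimage, hbase, show PrimeSpectrum.comap (algebraMap R' S') (suppPoint p' S' N' x) = ⟨p', inferInstance⟩ from h.2]
    exact hpp
  let j := fun x => (hmem x).choose
  have hjspec : ∀ x, suppPoint p S N (j x) = PrimeSpectrum.comap (algebraMap S S') (suppPoint p' S' N' x) := fun x =>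
    (hmem x).choose_spec
  have hcont : Continuous j := hψ.continuous_iff.2 (by
    rw [show suppPoint p S N ∘ j = PrimeSpectrum.comap (algebraMap S S') ∘ suppPoint p' S' N' from funext hjspec]
    exact (PrimeSpectrum.continuous_comap _).comp hψ'.continuous)
  haveI : Module.Flat S S' := inferInstance
  refine ⟨j, ⟨hcont, fun {a a'} e hs => ?_, fun {a b} hb => ?_⟩, ?_, hjspec⟩
  · refine hψ'.injective (PrimeSpectrum.ext ?_)
    refine (Algebra.QuasiFinite.eq_of_le_of_under_eq (R := S) (suppPoint p' S' N' a').asIdeal (suppPoint p' S' N' a).asIdeal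
      ((PrimeSpectrum.le_iff_specializes _ _).2 (hs.map hψ'.continuous)) ?_).symm
    exact congrArg PrimeSpectrum.asIdeal ((hjspec a').symm.trans ((congrArg (suppPoint p S N) e).symm.trans (hjspec a)))
  · have hle : (suppPoint p S N b).asIdeal ≤ (suppPoint p S N (j a)).asIdeal :=
      (PrimeSpectrum.le_iff_specializes _ _).2 (hb.map hψ.continuous)
    rw [hjspec] at hle
    haveI : (suppPoint p' S' N' a).asIdeal.LiesOver ((suppPoint p' S' N' a).asIdeal.comap (algebraMap S S')) := ⟨rfl⟩
    obtain ⟨P, hPle, hPprime, hPover⟩ := Ideal.exists_ideal_le_liesOver_of_le (p := (suppPoint p S N b).asIdeal)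
      (q := (suppPoint p' S' N' a).asIdeal.comap (algebraMap S S')) (suppPoint p' S' N' a).asIdeal hle
    have hb' := hr.le ⟨b, rfl⟩
    have hcP : PrimeSpectrum.comap (algebraMap S S') ⟨P, hPprime⟩ = suppPoint p S N b := PrimeSpectrum.ext hPover.over.symm
    have hP : (⟨P, hPprime⟩ : PrimeSpectrum S') ∈ Set.range (suppPoint p' S' N') := by
      rw [hr']
      refine ⟨hsupp.ge (show PrimeSpectrum.comap (algebraMap S S') ⟨P, hPprime⟩ ∈ _ by rw [hcP]; exact hb'.1), ?_⟩
      refine PrimeSpectrum.ext (Algebra.QuasiFinite.eq_of_le_of_under_eq (R := R) (P.comap (algebraMap R' S')) p' ?_ ?_)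
      · exact (Ideal.comap_mono hPle).trans (congrArg PrimeSpectrum.asIdeal (hr'.le ⟨a, rfl⟩).2).le
      · exact congrArg PrimeSpectrum.asIdeal
          (((hbase ⟨P, hPprime⟩).symm.trans ((congrArg _ hcP).trans hb'.2)).trans hpp.symm)
    obtain ⟨a', ha'⟩ := hP
    refine ⟨a', hψ'.isInducing.specializes_iff.1 ?_, hψ.injective (by rw [hjspec, ha', hcP])⟩
    rw [ha']
    exact (PrimeSpectrum.le_iff_specializes _ _).1 hPle
  · intro U hU
    obtain ⟨W, hW, rfl⟩ := hψ'.isInducing.isOpen_iff.1 hU
    obtain ⟨e, he, heq⟩ := Ideal.exists_not_mem_forall_mem_of_ne_of_liesOver (R := R) p p'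
    let V : Set (PrimeSpectrum S') := W ∩ (PrimeSpectrum.basicOpen (algebraMap R' S' e) : Set (PrimeSpectrum S'))
    have hV : IsOpen (PrimeSpectrum.comap (algebraMap S S') '' V) :=
      PrimeSpectrum.isOpenMap_comap_of_hasGoingDown_of_finitePresentation (R := S) (S := S') _
        (hW.inter (PrimeSpectrum.basicOpen _).2)
    convert hV.preimage hψ.continuous using 1
    ext y
    constructor
    · rintro ⟨x, hx, rfl⟩
      refine ⟨suppPoint p' S' N' x, ⟨hx, fun hm => he ?_⟩, (hjspec x).symm⟩
      exact (congrArg PrimeSpectrum.asIdeal (hr'.le ⟨x, rfl⟩).2).le hm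
    · rintro ⟨P, ⟨hPW, hPe⟩, hPy⟩
      have hy := hr.le ⟨y, rfl⟩
      rw [← hPy] at hy
      have hover : PrimeSpectrum.comap (algebraMap R' S') P = ⟨p', inferInstance⟩ := by
        refine PrimeSpectrum.ext ?_
        by_contra hne
        refine hPe (heq (P.asIdeal.comap (algebraMap R' S')) inferInstance hne ⟨?_⟩)
        exact (congrArg PrimeSpectrum.asIdeal ((hbase P).symm.trans hy.2)).symm
      obtain ⟨x, hx⟩ := hr'.ge ⟨hsupp.ge hy.1, hover⟩
      exact ⟨x, by rw [Set.mem_preimage, hx]; exact hPW, hψ.injective (by rw [hjspec, hx, hPy])⟩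

/-- The local dimension of the fibre support does not change along an étale square. -/
theorem locDim_etale [Module.Finite S N] [Algebra.Etale R R'] [Algebra.Etale S S'] (f : N →ₗ[S] N') (hf : IsBaseChange S' f)
    (q : Ideal S) [q.IsPrime] [q.LiesOver p] (q' : Ideal S') [q'.IsPrime] [q'.LiesOver q] [q'.LiesOver p'] {n : WithBot ℕ∞}
    (h : ∃ (ξ : PrimeSpectrum (p.Fiber S)) (hξ : ξ ∈ Module.support (p.Fiber S) (FlatCA.fiberMod p S N)),
      ξ.asIdeal = FlatCA.fiberIdeal p q ∧
      FlatMor.localDim (Module.support (p.Fiber S) (FlatCA.fiberMod p S N)) ⟨ξ, hξ⟩ = n) :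
    ∃ (ξ' : PrimeSpectrum (p'.Fiber S')) (hξ' : ξ' ∈ Module.support (p'.Fiber S') (FlatCA.fiberMod p' S' N')),
      ξ'.asIdeal = FlatCA.fiberIdeal p' q' ∧
      FlatMor.localDim (Module.support (p'.Fiber S') (FlatCA.fiberMod p' S' N')) ⟨ξ', hξ'⟩ = n := by
  haveI : Module.Finite S' N' := Module.Finite.equiv hf.equiv
  obtain ⟨j, hgl, hopen, hjspec⟩ := exists_genLift_supp p S N S' p' N' f hf
  obtain ⟨ξ, hξ, hξq, hn⟩ := h
  obtain ⟨-, hqι⟩ := FibAssLib.fiberIdeal_spec p q
  obtain ⟨hq'prime, hq'ι⟩ := FibAssLib.fiberIdeal_spec p' q'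
  have hq : (⟨q, inferInstance⟩ : PrimeSpectrum S) = suppPoint p S N ⟨ξ, hξ⟩ := PrimeSpectrum.ext (by
    show q = ξ.asIdeal.comap _
    rw [hξq, hqι])
  have hmem : (⟨q', inferInstance⟩ : PrimeSpectrum S') ∈ Set.range (suppPoint p' S' N') := by
    rw [range_suppPoint p' S' N']
    refine ⟨?_, PrimeSpectrum.ext (q'.over_def p').symm⟩
    rw [← hf.equiv.support_eq, AssSupLib.support_baseChange, PrimeSpectrum.mem_zeroLocus, SetLike.coe_subset_coe,
      Ideal.map_le_iff_le_comap]
    have h1 := ((range_suppPoint p S N).le ⟨⟨ξ, hξ⟩, rfl⟩).1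
    rw [← hq, Module.support_eq_zeroLocus] at h1
    exact le_trans (SetLike.coe_subset_coe.1 h1) (q'.over_def q).le
  obtain ⟨x, hx⟩ := hmem
  have hxq : x.1.asIdeal = FlatCA.fiberIdeal p' q' :=
    (FibAssLib.eq_fiberIdeal_of_comap p' (P := x.1.asIdeal) (congrArg PrimeSpectrum.asIdeal hx)).symm
  refine ⟨x.1, x.2, hxq, ?_⟩
  haveI : QuasiSober (Module.support (p.Fiber S) (FlatCA.fiberMod p S N)) := by
    rw [support_fiberMod_eq p S N]
    exact (PrimeSpectrum.isClosed_zeroLocus _).isClosedEmbedding_subtypeVal.quasiSober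
  haveI : QuasiSober (Module.support (p'.Fiber S') (FlatCA.fiberMod p' S' N')) := by
    rw [support_fiberMod_eq p' S' N']
    exact (PrimeSpectrum.isClosed_zeroLocus _).isClosedEmbedding_subtypeVal.quasiSober
  have hjx : j x = ⟨ξ, hξ⟩ := (isEmbedding_suppPoint p S N).injective (by
    rw [hjspec, hx, ← hq]
    exact PrimeSpectrum.ext (q'.over_def q).symm)
  show FlatMor.localDim _ x = n
  rw [FibreDimEt.localDim_eq_of_isGenLift hgl hopen x, hjx, hn]

end Groth.Agent.DevBCLib
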