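import Groth.Agent.EtDescent.Smooth
import Mathlib

/-!
# Étale algebras of a closed subscheme lift to étale algebras over an étale base
-/

set_option autoImplicit false
set_option linter.style.haveILetI false
set_option backward.isDefEq.respectTransparency false
set_option backward.isDefEq.respectTransparency.types false
set_option maxHeartbeats 1000000
set_option synthInstance.maxHeartbeats 200000

universe u

open TensorProduct

noncomputable section

namespace Groth.Agent.DevBCLib

attribute [local instance] Algebra.TensorProduct.rightAlgebra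

/-- An étale algebra over a finitely presented quotient, with a map from an étale algebra over the base, is cut out of
an étale algebra with such a map. -/
theorem exists_etale_lift_base {R R' S C C' : Type u} [CommRing R] [CommRing R'] [CommRing S] [CommRing C] [CommRing C']
    [Algebra R R'] [Algebra R S] [Algebra S C] [Algebra C C'] [Algebra R' C'] [Algebra R C] [Algebra R C'] [Algebra S C']
    [IsScalarTower R S C] [IsScalarTower S C C'] [IsScalarTower R R' C'] [IsScalarTower R C C']
    [Algebra.Etale R R'] [Algebra.Etale C C'] [Algebra.FinitePresentation S C]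
    (hsurj : Function.Surjective (algebraMap S C)) :
    ∃ (S' : Type u) (_ : CommRing S') (_ : Algebra S S') (_ : Algebra R' S') (_ : Algebra R S') (_ : IsScalarTower R S S')
      (_ : IsScalarTower R R' S') (_ : Algebra S' C') (_ : IsScalarTower S S' C') (_ : IsScalarTower R' S' C'),
      Algebra.Etale S S' ∧ Function.Surjective (algebraMap S' C') ∧ Algebra.IsPushout S S' C C' := by
  classical
  haveI : IsScalarTower R S C' := IsScalarTower.of_algebraMap_eq (R := R) (S := S) (A := C') fun r => by
    rw [IsScalarTower.algebraMap_apply R C C', IsScalarTower.algebraMap_apply R S C, ← IsScalarTower.algebraMap_apply S C C']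
  obtain ⟨S₁, _, _, φ, hEt, hφ, hker⟩ := EtDescent.exists_etale_lift S C C' hsurj
  haveI := hEt
  letI : Algebra R S₁ := ((algebraMap S S₁).comp (algebraMap R S)).toAlgebra
  haveI : IsScalarTower R S S₁ := .of_algebraMap_eq' rfl
  -- the product with the base
  let S₂ := R' ⊗[R] S₁
  letI : Algebra S S₂ := ((algebraMap S₁ S₂).comp (algebraMap S S₁)).toAlgebra
  haveI : IsScalarTower S S₁ S₂ := .of_algebraMap_eq' rfl
  haveI : IsScalarTower R S S₂ := IsScalarTower.of_algebraMap_eq (R := R) (S := S) (A := S₂) fun r => by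
    rw [IsScalarTower.algebraMap_apply S S₁ S₂, ← IsScalarTower.algebraMap_apply R S S₁, ← IsScalarTower.algebraMap_apply R S₁ S₂]
  haveI : Algebra.Etale S₁ S₂ := Algebra.Etale.of_equiv (Algebra.TensorProduct.commRight R S₁ R')
  haveI : Algebra.Etale S S₂ := Algebra.Etale.comp S S₁ S₂
  let π : S₂ →ₐ[R'] C' := Algebra.TensorProduct.lift (Algebra.ofId R' C') (φ.restrictScalars R) fun _ _ => Commute.all _ _
  have hπ : ∀ x : S₁, π (algebraMap S₁ S₂ x) = φ x := fun x => by
    show π ((1 : R') ⊗ₜ[R] x) = _
    rw [Algebra.TensorProduct.lift_tmul, map_one, one_mul]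
    rfl
  have hπS : ∀ s : S, π (algebraMap S S₂ s) = algebraMap S C' s := fun s => by
    rw [IsScalarTower.algebraMap_apply S S₁ S₂, hπ, AlgHom.commutes]
  have hπsurj : Function.Surjective π := fun c => by
    obtain ⟨x, hx⟩ := hφ c
    exact ⟨algebraMap S₁ S₂ x, (hπ x).trans hx⟩
  -- the reduction
  let J : Ideal S₂ := (RingHom.ker (algebraMap S C)).map (algebraMap S S₂)
  let Q := S₂ ⧸ J
  let g₀ : {g : S →+* Q // RingHom.ker (algebraMap S C) ≤ RingHom.ker g} :=
    ⟨(Ideal.Quotient.mk J).comp (algebraMap S S₂), fun s hs =>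
      (Ideal.Quotient.eq_zero_iff_mem.2 (Ideal.mem_map_of_mem _ hs) : Ideal.Quotient.mk J (algebraMap S S₂ s) = 0)⟩
  let c₀ : C →+* Q := (algebraMap S C).liftOfSurjective hsurj g₀
  letI : Algebra C Q := c₀.toAlgebra
  haveI : IsScalarTower S C Q := IsScalarTower.of_algebraMap_eq (R := S) (S := C) (A := Q) fun s =>
    ((algebraMap S C).liftOfSurjective_comp_apply hsurj g₀ s).symm
  let πQ : Q →+* C' := Ideal.Quotient.lift J π.toRingHom
    ((Ideal.map_le_iff_le_comap (f := algebraMap S S₂) (K := RingHom.ker π.toRingHom)).2 fun s hs => by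
      show π (algebraMap S S₂ s) = 0
      rw [hπS, IsScalarTower.algebraMap_apply S C C', RingHom.mem_ker.1 hs, map_zero])
  letI : Algebra Q C' := πQ.toAlgebra
  have hQ : ∀ x : S₂, algebraMap Q C' (Ideal.Quotient.mk J x) = π x := fun x => rfl
  haveI : IsScalarTower S Q C' := IsScalarTower.of_algebraMap_eq (R := S) (S := Q) (A := C') fun s => (hπS s).symm
  haveI : IsScalarTower C Q C' := IsScalarTower.of_algebraMap_eq (R := C) (S := Q) (A := C') fun c => by
    obtain ⟨s, rfl⟩ := hsurj c
    rw [← IsScalarTower.algebraMap_apply S C Q, ← IsScalarTower.algebraMap_apply S Q C', ← IsScalarTower.algebraMap_apply S C C']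
  have hQsurj : Function.Surjective (algebraMap Q C') := fun c => by
    obtain ⟨x, hx⟩ := hπsurj c
    exact ⟨Ideal.Quotient.mk J x, (hQ x).trans hx⟩
  haveI : Algebra.FormallyUnramified S Q :=
    Algebra.FormallyUnramified.of_surjective (Ideal.Quotient.mkₐ S J) (Ideal.Quotient.mkₐ_surjective _ _)
  haveI : Algebra.FormallyUnramified C Q := Algebra.FormallyUnramified.of_restrictScalars S C Q
  haveI : Algebra.FormallyEtale Q C' := Algebra.FormallyEtale.of_restrictScalars (R := C)
  haveI : Algebra.FiniteType S S₂ := inferInstance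
  haveI : Algebra.FiniteType S Q := Algebra.FiniteType.of_surjective (Ideal.Quotient.mkₐ S J) (Ideal.Quotient.mkₐ_surjective _ _)
  haveI : Algebra.FinitePresentation S C' := Algebra.FinitePresentation.trans S C C'
  haveI : Algebra.FinitePresentation Q C' := Algebra.FinitePresentation.of_restrict_scalars_finitePresentation S Q C'
  obtain ⟨e₀, he₀, hK⟩ := (Ideal.isIdempotentElem_iff_of_fg _
    (Algebra.FinitePresentation.ker_fG_of_surjective (Algebra.ofId Q C') hQsurj)).1
      ((Algebra.FormallyEtale.iff_of_surjective hQsurj).1 inferInstance)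
  obtain ⟨e, rfl⟩ := Ideal.Quotient.mk_surjective e₀
  -- the basic open
  have he : π e = 0 := by
    rw [← hQ]
    exact RingHom.mem_ker.1 (hK.ge (Submodule.mem_span_singleton_self _))
  let v : S₂ := 1 - e
  have hv : π v = 1 := by rw [map_sub, map_one, he, sub_zero]
  let S' := Localization.Away v
  have hu : IsUnit (π.toRingHom v) := by
    show IsUnit (π v)
    rw [hv]
    exact isUnit_one
  letI aSC : Algebra S' C' := (IsLocalization.Away.lift (S := S') v (g := π.toRingHom) hu).toAlgebra
  have hS' : ∀ x : S₂, algebraMap S' C' (algebraMap S₂ S' x) = π x := fun x => IsLocalization.Away.lift_eq v hu x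
  haveI : IsScalarTower S S₂ S' := inferInstance
  haveI tS : IsScalarTower S S' C' := IsScalarTower.of_algebraMap_eq (R := S) (S := S') (A := C') fun s => by
    rw [IsScalarTower.algebraMap_apply S S₂ S', hS', hπS]
  haveI tR' : IsScalarTower R' S' C' := IsScalarTower.of_algebraMap_eq (R := R') (S := S') (A := C') fun r => by
    rw [IsScalarTower.algebraMap_apply R' S₂ S', hS', AlgHom.commutes]
  haveI : IsScalarTower R S S' := IsScalarTower.of_algebraMap_eq (R := R) (S := S) (A := S') fun r => by
    rw [IsScalarTower.algebraMap_apply R S₂ S', IsScalarTower.algebraMap_apply S S₂ S', ← IsScalarTower.algebraMap_apply R S S₂]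
  haveI : Algebra.Etale S₂ S' := Algebra.Etale.of_isLocalizationAway v
  have hsurj' : Function.Surjective (algebraMap S' C') := fun c => by
    obtain ⟨x, hx⟩ := hπsurj c
    exact ⟨algebraMap S₂ S' x, (hS' x).trans hx⟩
  refine ⟨S', inferInstance, inferInstance, inferInstance, inferInstance, inferInstance, inferInstance, aSC, tS, tR',
    Algebra.Etale.comp S S₂ S', hsurj', ?_⟩
  -- the square
  have hkerS' : RingHom.ker (algebraMap S' C') ≤ (RingHom.ker (algebraMap S C)).map (algebraMap S S') := by
    intro x hx
    obtain ⟨k, s, hs⟩ := IsLocalization.Away.surj v x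
    have hs0 : π s = 0 := by
      rw [← hS', ← hs, map_mul, RingHom.mem_ker.1 hx, zero_mul]
    have hm : Ideal.Quotient.mk J s ∈ RingHom.ker (algebraMap Q C') := RingHom.mem_ker.2 ((hQ s).trans hs0)
    obtain ⟨t, ht⟩ := Ideal.mem_span_singleton'.1 (hK.le hm)
    have hvs : v * s ∈ J := by
      rw [← Ideal.Quotient.eq_zero_iff_mem, map_mul, ← ht, map_sub, map_one]
      linear_combination t * he₀.eq.symm
    have : algebraMap S₂ S' (v * s) ∈ (RingHom.ker (algebraMap S C)).map (algebraMap S S') := by
      rw [IsScalarTower.algebraMap_eq S S₂ S', ← Ideal.map_map]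
      exact Ideal.mem_map_of_mem _ hvs
    rw [map_mul, ← hs, show algebraMap S₂ S' v * (x * algebraMap S₂ S' v ^ k) = x * algebraMap S₂ S' v ^ (k + 1) by ring] at this
    exact (Ideal.mul_unit_mem_iff_mem _ ((IsLocalization.Away.algebraMap_isUnit (S := S') v).pow (k + 1))).1 this
  let l : S' ⊗[S] C →ₐ[S'] C' := Algebra.TensorProduct.lift (Algebra.ofId S' C') (IsScalarTower.toAlgHom S C C')
    fun _ _ => Commute.all _ _
  have hone : ∀ z : S' ⊗[S] C, ∃ x : S', algebraMap S' (S' ⊗[S] C) x = z := fun z => by
    induction z using TensorProduct.induction_on with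
    | zero => exact ⟨0, map_zero _⟩
    | add a b ha hb =>
      obtain ⟨a', rfl⟩ := ha
      obtain ⟨b', rfl⟩ := hb
      exact ⟨a' + b', map_add _ _ _⟩
    | tmul x c =>
      obtain ⟨s, rfl⟩ := hsurj c
      refine ⟨s • x, ?_⟩
      show (s • x) ⊗ₜ[S] (1 : C) = _
      rw [TensorProduct.smul_tmul, Algebra.smul_def, mul_one]
  have hlbij : Function.Bijective l := by
    refine ⟨(injective_iff_map_eq_zero l).2 fun z hz => ?_, fun c => ?_⟩
    · obtain ⟨x, rfl⟩ := hone z
      rw [AlgHom.commutes] at hz
      refine (Ideal.map_le_iff_le_comap (f := algebraMap S S') (K := RingHom.ker (algebraMap S' (S' ⊗[S] C)))).2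
        (fun s hs => ?_) (hkerS' (RingHom.mem_ker.2 hz))
      show algebraMap S' (S' ⊗[S] C) (algebraMap S S' s) = 0
      rw [← IsScalarTower.algebraMap_apply S S' (S' ⊗[S] C), IsScalarTower.algebraMap_apply S C (S' ⊗[S] C),
        RingHom.mem_ker.1 hs, map_zero]
    · obtain ⟨x, rfl⟩ := hsurj' c
      exact ⟨algebraMap S' _ x, AlgHom.commutes l x⟩
  exact Algebra.IsPushout.of_equiv (h := (inferInstance : Algebra.IsPushout S S' C (S' ⊗[S] C)))
    (AlgEquiv.ofBijective l hlbij) (RingHom.ext fun c => by
      show l ((1 : S') ⊗ₜ[S] c) = _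
      simp [l])

end Groth.Agent.DevBCLib
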