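import Groth.Agent.DevBCLib.Away
import Groth.Agent.DevBCLib.Complete
import Groth.Agent.DevLib.Shrink

/-!
# The steps of a dévissage on basic opens, and products of switched algebras
-/

set_option autoImplicit false
set_option linter.style.haveILetI false
set_option backward.isDefEq.respectTransparency false
set_option backward.isDefEq.respectTransparency.types false
set_option maxHeartbeats 1000000
set_option synthInstance.maxHeartbeats 200000

universe u

open TensorProduct

noncomputable section

namespace Groth.Agent.DevBCLib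

section Switch

variable {R' : Type u} [CommRing R'] {X Y Z T U : Type u} [CommRing X] [CommRing Y] [CommRing Z] [CommRing T] [CommRing U]
  [Algebra R' X] [Algebra R' Y] [Algebra R' Z] [Algebra R' T] [Algebra R' U] {c d : Prop}

/-- The only map to a zero ring. -/
def toZero [Subsingleton Z] : X →ₐ[R'] Z where
  toFun _ := 0
  map_one' := Subsingleton.elim _ _
  map_mul' _ _ := Subsingleton.elim _ _
  map_zero' := rfl
  map_add' _ _ := Subsingleton.elim _ _
  commutes' _ := Subsingleton.elim _ _

/-- Maps out of a switched algebra. -/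
def killLift (f : X →ₐ[R'] Z) (h : ¬ c → Subsingleton Z) : Kill X c →ₐ[R'] Z :=
  Ideal.Quotient.liftₐ (killI X c) f fun x hx => by
    by_cases hc : c
    · rw [killI, if_pos hc, Ideal.mem_bot] at hx
      rw [hx, map_zero]
    · exact @Subsingleton.elim _ (h hc) _ _

theorem killLift_mk (f : X →ₐ[R'] Z) (h : ¬ c → Subsingleton Z) (x : X) :
    killLift f h (Ideal.Quotient.mk (killI X c) x) = f x := rfl

/-- The product of two opposite switches. -/
abbrev PK (X T : Type u) [CommRing X] [CommRing T] (c : Prop) : Type u := Kill X c × Kill T (¬ c)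

/-- Componentwise maps. -/
def pkMap (f : X →ₐ[R'] Y) (ψ : T →ₐ[R'] U) : PK X T c →ₐ[R'] PK Y U c :=
  AlgHom.prod
    ((killLift ((Ideal.Quotient.mkₐ R' (killI Y c)).comp f) fun h => subsingleton_kill h).comp (AlgHom.fst R' _ _))
    ((killLift ((Ideal.Quotient.mkₐ R' (killI U (¬ c))).comp ψ) fun h => subsingleton_kill h).comp (AlgHom.snd R' _ _))

variable (T) in
/-- The first factor when the switch is on. -/
def pkL (hc : c) : X →ₐ[R'] PK X T c :=
  haveI := subsingleton_kill (X := T) (c := ¬ c) (not_not_intro hc)
  AlgHom.prod (Ideal.Quotient.mkₐ R' (killI X c)) toZero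

variable (X) in
/-- The second factor when the switch is off. -/
def pkR (hc : ¬ c) : T →ₐ[R'] PK X T c :=
  haveI := subsingleton_kill (X := X) hc
  AlgHom.prod toZero (Ideal.Quotient.mkₐ R' (killI T (¬ c)))

theorem pkL_bijective (hc : c) : Function.Bijective (pkL (R' := R') (X := X) T hc) := by
  haveI := subsingleton_kill (X := T) (c := ¬ c) (not_not_intro hc)
  refine ⟨fun a b h => (kill_bijective (R' := R') hc).1 (congrArg Prod.fst h), fun z => ?_⟩
  obtain ⟨a, ha⟩ := (kill_bijective (R' := R') hc).2 z.1
  exact ⟨a, Prod.ext ha (Subsingleton.elim _ _)⟩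

theorem pkR_bijective (hc : ¬ c) : Function.Bijective (pkR (R' := R') X (T := T) hc) := by
  haveI := subsingleton_kill (X := X) hc
  refine ⟨fun a b h => (kill_bijective (R' := R') hc).1 (congrArg Prod.snd h), fun z => ?_⟩
  obtain ⟨a, ha⟩ := (kill_bijective (R' := R') hc).2 z.2
  exact ⟨a, Prod.ext (Subsingleton.elim _ _) ha⟩

theorem pkMap_pkL (f : X →ₐ[R'] Y) (ψ : T →ₐ[R'] U) (hc : c) (x : X) :
    pkMap f ψ (pkL (R' := R') T hc x) = pkL (R' := R') U hc (f x) := by
  haveI := subsingleton_kill (X := U) (c := ¬ c) (not_not_intro hc)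
  exact Prod.ext rfl (Subsingleton.elim _ _)

theorem pkMap_pkR (f : X →ₐ[R'] Y) (ψ : T →ₐ[R'] U) (hc : ¬ c) (x : T) :
    pkMap f ψ (pkR (R' := R') X hc x) = pkR (R' := R') Y hc (ψ x) := by
  haveI := subsingleton_kill (X := Y) hc
  exact Prod.ext (Subsingleton.elim _ _) rfl

/-- A bijection of algebras keeps localisations. -/
theorem away_of_bijective {A : Type u} [CommRing A] [Algebra A X] [Algebra A Y] (a : A) [IsLocalization.Away a X]
    (f : X →+* Y) (hf : Function.Bijective f) (hc : ∀ x, f (algebraMap A X x) = algebraMap A Y x) :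
    IsLocalization.Away a Y :=
  IsLocalization.isLocalization_of_algEquiv (Submonoid.powers a)
    (AlgEquiv.ofBijective { f with commutes' := hc } hf)

end Switch

/-- Ideals of a localisation with the same contraction agree. -/
theorem eq_of_comap {A A' : Type u} [CommRing A] [CommRing A'] [Algebra A A'] (M : Submonoid A) [IsLocalization M A']
    {I J : Ideal A'} (h : I.comap (algebraMap A A') = J.comap (algebraMap A A')) : I = J := by
  rw [← IsLocalization.map_under M A' I, ← IsLocalization.map_under M A' J, Ideal.under_def, Ideal.under_def, h]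

section Square

variable {A C A' C' : Type u} [CommRing A] [CommRing C] [CommRing A'] [CommRing C'] [Algebra A C] [Algebra A A'] [Algebra C C']
  [Algebra A' C'] [Algebra A C'] [IsScalarTower A A' C'] [IsScalarTower A C C']

theorem isPushout_away (b : A) [IsLocalization.Away b A'] [IsLocalization.Away (algebraMap A C b) C'] :
    Algebra.IsPushout A A' C C' := by
  haveI : IsLocalization (Algebra.algebraMapSubmonoid C (Submonoid.powers b)) C' := by
    rw [Algebra.algebraMapSubmonoid_powers]
    exact (inferInstance : IsLocalization.Away (algebraMap A C b) C')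
  haveI : Algebra.IsPushout A C A' C' := Algebra.isPushout_of_isLocalization (Submonoid.powers b) A' C C'
  exact Algebra.IsPushout.symm inferInstance

theorem finite_away (b : A) [IsLocalization.Away b A'] [IsLocalization.Away (algebraMap A C b) C'] [Module.Finite A C] :
    Module.Finite A' C' :=
  haveI := isPushout_away (A' := A') (C := C) (C' := C') b
  Module.Finite.equiv (Algebra.IsPushout.equiv A A' C C').toLinearEquiv

theorem finitePresentation_away (b : A) [IsLocalization.Away b A'] [IsLocalization.Away (algebraMap A C b) C']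
    [Algebra.FinitePresentation A C] : Algebra.FinitePresentation A' C' :=
  haveI := isPushout_away (A' := A') (C := C) (C' := C') b
  Algebra.FinitePresentation.equiv (Algebra.IsPushout.equiv A A' C C')

theorem surjective_away (b : A) [IsLocalization.Away b A'] [IsLocalization.Away (algebraMap A C b) C']
    (h : Function.Surjective (algebraMap A C)) : Function.Surjective (algebraMap A' C') := by
  intro x
  obtain ⟨k, c, hc⟩ := IsLocalization.Away.surj (algebraMap A C b) x
  obtain ⟨a, rfl⟩ := h c
  refine ⟨IsLocalization.mk' A' a (⟨b ^ k, k, rfl⟩ : Submonoid.powers b), ?_⟩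
  refine ((IsLocalization.Away.algebraMap_isUnit (algebraMap A C b)).pow k).mul_right_cancel ?_
  rw [hc, show algebraMap C C' (algebraMap A C b) = algebraMap A' C' (algebraMap A A' b) by
      rw [← IsScalarTower.algebraMap_apply A A' C', IsScalarTower.algebraMap_apply A C C'],
    ← map_pow, ← map_mul, ← map_pow, IsLocalization.mk'_spec, ← IsScalarTower.algebraMap_apply A A' C',
    IsScalarTower.algebraMap_apply A C C']

/-- A single prime over a point stays single. -/
theorem uniq_away (b : A) [IsLocalization.Away (algebraMap A C b) C'] {P : Ideal A} {Q : Ideal C}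
    (huniq : ∀ (Q₁ : Ideal C) [Q₁.IsPrime], Q₁.LiesOver P → Q₁ = Q) {P' : Ideal A'} (hP : P'.comap (algebraMap A A') = P)
    {Q' : Ideal C'} (hQ : Q'.comap (algebraMap C C') = Q) (Q₁ : Ideal C') [Q₁.IsPrime] (h : Q₁.LiesOver P') : Q₁ = Q' := by
  refine eq_of_comap (Submonoid.powers (algebraMap A C b)) (Eq.trans ?_ hQ.symm)
  refine huniq _ ⟨?_⟩
  rw [Ideal.under_def, Ideal.comap_comap, ← IsScalarTower.algebraMap_eq, IsScalarTower.algebraMap_eq A A' C',
    ← Ideal.comap_comap, ← hP]
  exact congrArg (Ideal.comap _) h.over

/-- A contraction computed before localising. -/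
theorem comap_away (b : A) [IsLocalization.Away b A'] {P : Ideal A} {Q : Ideal C} (h : Q.comap (algebraMap A C) = P)
    {P' : Ideal A'} (hP : P'.comap (algebraMap A A') = P) {Q' : Ideal C'} (hQ : Q'.comap (algebraMap C C') = Q) :
    Q'.comap (algebraMap A' C') = P' := by
  refine eq_of_comap (Submonoid.powers b) ?_
  rw [Ideal.comap_comap, ← IsScalarTower.algebraMap_eq, IsScalarTower.algebraMap_eq A C C', ← Ideal.comap_comap, hQ, h, hP]

end Square

section Smooth

variable {R R' B B' : Type u} [CommRing R] [CommRing R'] [CommRing B] [CommRing B'] [Algebra R R'] [Algebra R B]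
  [Algebra R' B'] [Algebra R B'] [Algebra B B'] [IsScalarTower R R' B'] [IsScalarTower R B B']

theorem geomIrred_away (h : FlatCA.GeomIrredFibres R B) {d : B} {f f₀ : R}
    (himg : ∀ Q : PrimeSpectrum R, f₀ ∉ Q.asIdeal →
      ∃ Q' : PrimeSpectrum B, d ∉ Q'.asIdeal ∧ PrimeSpectrum.comap (algebraMap R B) Q' = Q)
    (hf : f₀ ∣ f) [IsLocalization.Away f R'] [IsLocalization.Away (d * algebraMap R B f) B'] :
    FlatCA.GeomIrredFibres R' B' := by
  refine DevLib.geomIrred_of_preIrred ?_ (DevLib.surjective_comap_away himg hf R' B')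
  intro K _ _
  haveI : IsLocalization (Algebra.algebraMapSubmonoid B' (Submonoid.powers f)) B' :=
    IsLocalization.self (by
      rintro _ ⟨_, ⟨k, rfl⟩, rfl⟩
      rw [map_pow]
      refine IsUnit.pow k ?_
      rw [IsScalarTower.algebraMap_apply R B B']
      exact isUnit_of_dvd_unit (map_dvd _ (dvd_mul_left _ d)) (IsLocalization.Away.algebraMap_isUnit _))
  haveI : Algebra.IsPushout R B' R' B' := Algebra.isPushout_of_isLocalization (Submonoid.powers f) R' B' B'
  haveI : Algebra.IsPushout R R' B' B' := Algebra.IsPushout.symm inferInstance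
  exact DevLib.PreIrred.baseChange
    (DevLib.PreIrred.localization (DevLib.preIrred_of_geomIrred h) (d * algebraMap R B f) B') R' B' K

/-- The extended prime of the base stays prime. -/
theorem prime_map_away (b : B) [IsLocalization.Away b B'] (p : Ideal R) (hp : (p.map (algebraMap R B)).IsPrime)
    (hb : b ∉ p.map (algebraMap R B)) :
    ((p.map (algebraMap R R')).map (algebraMap R' B')).IsPrime ∧
      ((p.map (algebraMap R R')).map (algebraMap R' B')).comap (algebraMap B B') = p.map (algebraMap R B) := by
  have hdis : Disjoint (Submonoid.powers b : Set B) (p.map (algebraMap R B) : Ideal B) :=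
    (Ideal.disjoint_powers_iff_notMem b hp.isRadical).2 hb
  rw [Ideal.map_map, ← IsScalarTower.algebraMap_eq, IsScalarTower.algebraMap_eq R B B', ← Ideal.map_map]
  refine ⟨IsLocalization.isPrime_of_isPrime_disjoint (Submonoid.powers b) _ _ hp hdis, ?_⟩
  exact (IsLocalization.liesOver_map_of_isPrime_disjoint (Submonoid.powers b) _ hdis).over.symm

end Smooth

end Groth.Agent.DevBCLib
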