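import Groth.Prelude.Def_FlatCA
import Groth.Agent.DevBCLib.EtaleDim
import Groth.Agent.DevBCLib.EtaleLift
import Groth.Agent.DevBCLib.ShrinkSteps
import Groth.Agent.DevBCLib.Alpha
import Groth.Agent.DevLib.MainAux
import Groth.Agent.PureColimLib.Flat

/-!
# The part of an étale localisation of a dévissage step lying on the finite algebra
-/

set_option autoImplicit false
set_option linter.style.haveILetI false
set_option backward.isDefEq.respectTransparency false
set_option backward.isDefEq.respectTransparency.types false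
set_option maxHeartbeats 4000000
set_option synthInstance.maxHeartbeats 200000

universe u

open TensorProduct AlgebraicGeometry

noncomputable section

namespace Groth.Agent.DevBCLib

attribute [local instance] Algebra.TensorProduct.rightAlgebra

/-- An étale neighbourhood of the smooth algebra of a step gives one of the whole step. -/
theorem exists_piece
    (R S : Type u) [CommRing R] [CommRing S] [Algebra R S] [Algebra.FiniteType R S]
    (N : Type u) [AddCommGroup N] [Module S N] [Module R N] [IsScalarTower R S N] [Module.Finite S N]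
    (p : Ideal R) [p.IsPrime] (q : Ideal S) [q.IsPrime] [q.LiesOver p]
    (C D G : Type u) [CommRing C] [CommRing D] [Algebra S C] [Algebra R C] [IsScalarTower R S C]
    [Algebra R D] [Algebra D C] [IsScalarTower R D C] [AddCommGroup G] [Module C G] [Module S G]
    [IsScalarTower S C G] [Algebra.FiniteType R D] [Algebra.FinitePresentation S C] [Module.Finite D C] [Module.Finite C G]
    (e : N ≃ₗ[S] G) (hsurj : Function.Surjective (algebraMap S C)) (n : ℕ)
    (z : Ideal C) [z.IsPrime] (y : Ideal D) [y.IsPrime] [z.LiesOver q] [z.LiesOver y] [y.LiesOver p]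
    (h1 : ∃ (ξ : PrimeSpectrum (p.Fiber S)) (hξ : ξ ∈ Module.support (p.Fiber S) (FlatCA.fiberMod p S N)),
      ξ.asIdeal = FlatCA.fiberIdeal p q ∧
      FlatMor.localDim (Module.support (p.Fiber S) (FlatCA.fiberMod p S N)) ⟨ξ, hξ⟩ = n)
    (h3 : ∀ (z₁ : Ideal C) [z₁.IsPrime], z₁.LiesOver y → z₁ = z)
    (R'' : Type u) [CommRing R''] [Algebra R R''] [Algebra.Etale R R''] (p'' : Ideal R'') [p''.IsPrime] [p''.LiesOver p]
    (D'' : Type u) [CommRing D''] [Algebra D D''] [Algebra R'' D''] [Algebra R D''] [IsScalarTower R R'' D'']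
    [IsScalarTower R D D''] [Algebra.Etale D D''] (y'' : Ideal D'') [y''.IsPrime] [y''.LiesOver y] [y''.LiesOver p'']
    (hκy : Function.Bijective (Ideal.ResidueField.mapₐ y y'' (Algebra.ofId D D'') (y''.over_def y)))
    (hrel' : FlatCA.SmoothRelDim n R'' D'') (hirr : FlatCA.GeomIrredFibres R'' D'')
    (hpureT : FlatCA.PurelyTranscendental p'' y'') :
    ∃ (C'' : Type u) (_ : CommRing C'') (_ : Algebra C C'') (_ : Algebra D'' C'') (_ : Algebra D C'')
      (_ : Algebra R'' C'') (_ : IsScalarTower D D'' C'') (_ : IsScalarTower D C C'') (_ : IsScalarTower R'' D'' C'')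
      (z'' : Ideal C'') (_ : z''.IsPrime) (_ : z''.LiesOver z) (_ : z''.LiesOver y''),
      Algebra.IsPushout D D'' C C'' ∧
    ∃ (G'' : Type u) (_ : AddCommGroup G'') (_ : Module C'' G'') (_ : Module C G'') (_ : IsScalarTower C C'' G'')
      (gG : G →ₗ[C] G''), IsBaseChange C'' gG ∧
    ∃ (S'' : Type u) (_ : CommRing S'') (_ : Algebra S S'') (_ : Algebra R'' S'') (_ : Algebra R S'')
      (_ : IsScalarTower R S S'') (_ : IsScalarTower R R'' S'') (q'' : Ideal S'') (_ : q''.IsPrime)
      (_ : Algebra S'' C'') (_ : Algebra S C'') (_ : IsScalarTower S S'' C'') (_ : IsScalarTower S C C'')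
      (_ : IsScalarTower R'' S'' C'') (_ : Module S'' G'') (_ : IsScalarTower S'' C'' G''),
      FlatCA.IsEtaleNhd S S'' q q'' ∧ z''.LiesOver q'' ∧
    ∃ (N'' : Type u) (_ : AddCommGroup N'') (_ : Module S'' N'') (_ : Module S N'') (_ : IsScalarTower S S'' N'')
      (_ : Module R'' N'') (_ : IsScalarTower R'' S'' N'') (gN : N →ₗ[S] N''), IsBaseChange S'' gN ∧
      FlatCA.IsOneStepDevissage R'' S'' N'' p'' C'' D'' G'' n ∧
      (∃ (ξ : PrimeSpectrum (p''.Fiber S'')) (hξ : ξ ∈ Module.support (p''.Fiber S'') (FlatCA.fiberMod p'' S'' N'')),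
        ξ.asIdeal = FlatCA.fiberIdeal p'' q'' ∧
        FlatMor.localDim (Module.support (p''.Fiber S'') (FlatCA.fiberMod p'' S'' N'')) ⟨ξ, hξ⟩ = n) ∧
      (∀ (z₂ : Ideal C'') [z₂.IsPrime], z₂.LiesOver y'' → z₂ = z'') ∧
      FlatCA.PurelyTranscendental p'' y'' := by
  classical
  -- the closed piece
  let C'' := D'' ⊗[D] C
  letI aCC'' : Algebra C C'' := Algebra.TensorProduct.rightAlgebra
  haveI : Algebra.IsPushout D D'' C C'' := inferInstance
  let eC : (C ⊗[D] D'') ≃ₐ[C] (D'' ⊗[D] C) := Algebra.TensorProduct.commRight D C D''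
  haveI : Algebra.Etale C C'' := Algebra.Etale.of_equiv (R := C) (A := C ⊗[D] D'') (B := C'') eC
  obtain ⟨z'', hz''p, hz''y, hz''z⟩ := PureColimLib.exists_prime_over (A' := D) (A := D'') (B' := C) (B := C'') y'' z
    ((y''.over_def y).symm.trans (z.over_def y))
  haveI := hz''p
  haveI hzo : z''.LiesOver z := ⟨hz''z.symm⟩
  haveI hzy : z''.LiesOver y'' := ⟨hz''y.symm⟩
  have hfz : DevissLib.FracMod z z'' := DevissLib.fracMod_of_bijective z z'' (DevBCLib.residue_bijective_bc y y'' hκy z z'')
  haveI : IsScalarTower R D'' C'' := inferInstance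
  haveI : IsScalarTower R C C'' := IsScalarTower.of_algebraMap_eq (R := R) (S := C) (A := C'') fun x => by
    rw [IsScalarTower.algebraMap_apply R D'' C'', IsScalarTower.algebraMap_apply R D D'', ← IsScalarTower.algebraMap_apply D D'' C'',
      IsScalarTower.algebraMap_apply D C C'', ← IsScalarTower.algebraMap_apply R D C]
  haveI : IsScalarTower R'' D'' C'' := inferInstance
  haveI : IsScalarTower R R'' C'' := IsScalarTower.of_algebraMap_eq (R := R) (S := R'') (A := C'') fun x => by
    rw [IsScalarTower.algebraMap_apply R C C'', IsScalarTower.algebraMap_apply R D C, ← IsScalarTower.algebraMap_apply D C C'',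
      IsScalarTower.algebraMap_apply D D'' C'', ← IsScalarTower.algebraMap_apply R D D'',
      IsScalarTower.algebraMap_apply R R'' D'', ← IsScalarTower.algebraMap_apply R'' D'' C'']
  letI aSC'' : Algebra S C'' := ((algebraMap C C'').comp (algebraMap S C)).toAlgebra
  haveI tSCC'' : IsScalarTower S C C'' := .of_algebraMap_eq' rfl
  obtain ⟨S'', _, _, _, _, tS1, tS2, _, tS3, tS4, hSe, hSsurj, hSpo⟩ :=
    DevBCLib.exists_etale_lift_base (R := R) (R' := R'') (S := S) (C := C) (C' := C'') hsurj
  haveI := hSe
  haveI := hSpo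
  let q'' := z''.comap (algebraMap S'' C'')
  haveI : z''.LiesOver q'' := ⟨rfl⟩
  haveI hq''q : q''.LiesOver q := ⟨by
    rw [Ideal.under_def, Ideal.comap_comap, ← IsScalarTower.algebraMap_eq, IsScalarTower.algebraMap_eq S C C'',
      ← Ideal.comap_comap, hz''z]
    exact z.over_def q⟩
  haveI hq''p : q''.LiesOver p'' := ⟨by
    rw [Ideal.under_def, Ideal.comap_comap, ← IsScalarTower.algebraMap_eq, IsScalarTower.algebraMap_eq R'' D'' C'',
      ← Ideal.comap_comap]
    exact (y''.over_def p'').trans (congrArg (Ideal.comap _) hz''y.symm)⟩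
  have hfq : DevissLib.FracMod q q'' := by
    intro x
    obtain ⟨c, a, hc, hca⟩ := hfz (algebraMap S'' C'' x)
    obtain ⟨s, rfl⟩ := hsurj c
    obtain ⟨t, rfl⟩ := hsurj a
    refine ⟨s, t, fun hs => hc ((Ideal.mem_of_liesOver z q s).1 hs), ?_⟩
    show algebraMap S'' C'' (algebraMap S S'' s * x - algebraMap S S'' t) ∈ z''
    rwa [map_sub, map_mul, ← IsScalarTower.algebraMap_apply S S'' C'', ← IsScalarTower.algebraMap_apply S S'' C'',
      IsScalarTower.algebraMap_apply S C C'', IsScalarTower.algebraMap_apply S C C'']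
  -- the modules
  let G'' := C'' ⊗[C] G
  let gG : G →ₗ[C] G'' := TensorProduct.mk C C'' G 1
  have hgG : IsBaseChange C'' gG := TensorProduct.isBaseChange _ _ _
  let N'' := S'' ⊗[S] N
  let gN : N →ₗ[S] N'' := TensorProduct.mk S S'' N 1
  have hgN : IsBaseChange S'' gN := TensorProduct.isBaseChange _ _ _
  haveI : IsScalarTower S'' C'' G'' := inferInstance
  haveI : IsScalarTower R'' S'' G'' := inferInstance
  haveI : IsScalarTower R'' C'' G'' := inferInstance
  haveI : IsScalarTower R'' D'' G'' := inferInstance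
  haveI : IsScalarTower D'' C'' G'' := inferInstance
  haveI : IsScalarTower R'' S'' N'' := inferInstance
  haveI : IsScalarTower S S'' G'' := inferInstance
  haveI : IsScalarTower S C G'' := inferInstance
  haveI : Algebra.IsPushout S C S'' C'' := Algebra.IsPushout.symm inferInstance
  have hgS : IsBaseChange S'' (gG.restrictScalars S) := PolLawBCLib.isBaseChange_restrict gG hgG
  let eG : N'' ≃ₗ[S''] G'' := hgN.equiv.symm ≪≫ₗ (hgS.comp_equiv e (gG.restrictScalars S)).equiv
  haveI : Module.Finite S'' N'' := inferInstance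
  haveI : Module.Finite S'' G'' := Module.Finite.equiv eG
  haveI : Module.Finite D'' C'' := inferInstance
  haveI : Module.Finite C'' G'' := inferInstance
  haveI : Module.Finite D'' G'' := Module.Finite.trans C'' G''
  haveI : Algebra.FiniteType R S'' := Algebra.FiniteType.trans (R := R) (S := S) (A := S'') inferInstance inferInstance
  haveI : Algebra.FiniteType R'' S'' := Algebra.FiniteType.of_restrictScalars_finiteType R R'' S''
  haveI : Algebra.FiniteType R D'' := Algebra.FiniteType.trans (R := R) (S := D) (A := D'') inferInstance inferInstance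
  haveI : Algebra.FiniteType R'' D'' := Algebra.FiniteType.of_restrictScalars_finiteType R R'' D''
  have hloc := DevBCLib.locDim_etale p S N S'' p'' N'' gN hgN q q'' h1
  have hdim' : Module.supportDim (p''.Fiber S'') (FlatCA.fiberMod p'' S'' N'') = n := by
    refine le_antisymm ?_ ?_
    · let eF : FlatCA.fiberMod p'' S'' N'' ≃ₗ[p''.Fiber S''] FlatCA.fiberMod p'' S'' G'' :=
        AlgebraTensorModule.congr (LinearEquiv.refl (p''.Fiber S'') (p''.Fiber S'')) eG
      rw [Module.supportDim_eq_of_equiv eF, DevissLib.supportDim_fiberMod_eq p'' S'' C'' G'',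
        ← DevissLib.supportDim_fiberMod_eq p'' D'' C'' G'']
      exact (Module.supportDim_le_ringKrullDim _ _).trans (DevissLib.ringKrullDim_fiber_le hrel' p'')
    · obtain ⟨ξ, hξ, -, hn⟩ := hloc
      rw [← DevLib.topologicalKrullDim_support, ← hn]
      exact iInf_le_of_le ⟨⊤, trivial⟩ (topologicalKrullDim_subspace_le _ _)
  refine ⟨C'', inferInstance, inferInstance, inferInstance, inferInstance, inferInstance, inferInstance, inferInstance, inferInstance,
    z'', hz''p, hzo, hzy, inferInstance, G'', inferInstance, inferInstance, inferInstance, inferInstance, gG, hgG,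
    S'', inferInstance, inferInstance, inferInstance, inferInstance, tS1, tS2, q'', inferInstance, inferInstance, aSC'', tS3,
    tSCC'', tS4, inferInstance, inferInstance,
    ⟨hSe, hq''q, DevissLib.residue_bijective_of_frac q q'' hfq⟩, inferInstance,
    N'', inferInstance, inferInstance, inferInstance, inferInstance, inferInstance, inferInstance, gN, hgN,
    ⟨⟨eG⟩, hSsurj, Algebra.FinitePresentation.equiv (Algebra.IsPushout.equiv S S'' C C''), inferInstance, inferInstance,
      hrel', hirr, hdim'⟩, hloc, fun z₂ _ hz₂ => ?_, hpureT⟩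
  refine eq_of_over y y'' hκy z z₂ z'' ⟨(h3 (z₂.comap (algebraMap C C'')) ⟨?_⟩).symm⟩ hz₂ inferInstance inferInstance
  rw [Ideal.under_def, Ideal.comap_comap, ← IsScalarTower.algebraMap_eq, IsScalarTower.algebraMap_eq D D'' C'',
    ← Ideal.comap_comap]
  exact (y''.over_def y).trans (congrArg (Ideal.comap _) hz₂.over)

end Groth.Agent.DevBCLib
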