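import Groth.Agent.S9777
import Groth.Agent.AssSupLib.Support
import Groth.Agent.FibAssLib.Fibre
import Groth.Agent.DevissLib.ExistAux

/-!
# Fibre rings and fibre supports after a change of the base
-/

set_option autoImplicit false
set_option linter.style.haveILetI false
set_option backward.isDefEq.respectTransparency false
set_option backward.isDefEq.respectTransparency.types false
set_option maxHeartbeats 1000000
set_option synthInstance.maxHeartbeats 400000

universe u

open TensorProduct

noncomputable section

namespace Groth.Agent.DevBCLib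

attribute [local instance] Algebra.TensorProduct.rightAlgebra

/-- The dimension of a quotient does not change under a field extension. -/
theorem ringKrullDim_quotient_map {k k' F F' : Type u} [Field k] [Field k'] [CommRing F] [CommRing F'] [Algebra k k']
    [Algebra k F] [Algebra k' F'] [Algebra F F'] [Algebra k F'] [IsScalarTower k k' F'] [IsScalarTower k F F']
    [Algebra.FiniteType k F] [Algebra.IsPushout k k' F F'] (I : Ideal F) :
    ringKrullDim (F' ⧸ I.map (algebraMap F F')) = ringKrullDim (F ⧸ I) := by
  let E := F' ⊗[F] (F ⧸ I)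
  rw [ringKrullDim_eq_of_ringEquiv (Algebra.TensorProduct.quotIdealMapEquivTensorQuot F' I).toRingEquiv]
  haveI : IsScalarTower k (F ⧸ I) E := IsScalarTower.of_algebraMap_eq (R := k) (S := F ⧸ I) (A := E) fun x => by
    rw [IsScalarTower.algebraMap_apply k F (F ⧸ I), ← IsScalarTower.algebraMap_apply F (F ⧸ I) E,
      ← IsScalarTower.algebraMap_apply k F E]
  haveI : Algebra.IsPushout F (F ⧸ I) F' E := Algebra.IsPushout.symm inferInstance
  haveI : Algebra.IsPushout k F k' F' := Algebra.IsPushout.symm inferInstance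
  haveI : Algebra.IsPushout k (F ⧸ I) k' E :=
    (Algebra.IsPushout.comp_iff (R := k) (S := F) (R' := k') (S' := F') (T := F ⧸ I) (T' := E)).2 inferInstance
  rw [← ringKrullDim_eq_of_ringEquiv (Algebra.IsPushout.equiv k (F ⧸ I) k' E).toRingEquiv]
  haveI : Algebra.FiniteType k (F ⧸ I) :=
    Algebra.FiniteType.of_surjective (Ideal.Quotient.mkₐ k I) Ideal.Quotient.mk_surjective
  exact S9777.ringKrullDim_tensor_field

variable {R R' : Type u} [CommRing R] [CommRing R'] [Algebra R R'] (p : Ideal R) [p.IsPrime] (p' : Ideal R') [p'.IsPrime]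
  [hp' : p'.LiesOver p] (S S' : Type u) [CommRing S] [CommRing S'] [Algebra R S] [Algebra R' S'] [Algebra R S'] [Algebra S S']
  [IsScalarTower R R' S'] [IsScalarTower R S S']

/-- The map of residue fields. -/
def kappaMap : p.ResidueField →ₐ[R] p'.ResidueField := Ideal.ResidueField.mapₐ p p' (Algebra.ofId R R') hp'.over

/-- The map of fibre rings after a change of the base. -/
def fibBC : p.Fiber S →ₐ[R] p'.Fiber S' :=
  Algebra.TensorProduct.lift ((IsScalarTower.toAlgHom R p'.ResidueField (p'.Fiber S')).comp (kappaMap p p'))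
    { (CAlgFib.ι (S := S') p').comp (algebraMap S S') with
      commutes' := fun r => by
        show CAlgFib.ι p' (algebraMap S S' (algebraMap R S r)) = algebraMap R (p'.Fiber S') r
        rw [← IsScalarTower.algebraMap_apply R S S', IsScalarTower.algebraMap_apply R R' S',
          IsScalarTower.algebraMap_apply R R' (p'.Fiber S')]
        exact (Algebra.TensorProduct.includeRight (R := R') (A := p'.ResidueField) (B := S')).commutes _ }
    fun _ _ => Commute.all _ _

theorem fibBC_ι (s : S) : fibBC p p' S S' (CAlgFib.ι p s) = CAlgFib.ι p' (algebraMap S S' s) := by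
  show fibBC p p' S S' ((1 : p.ResidueField) ⊗ₜ[R] s) = _
  simp [fibBC]

theorem fibBC_left (x : p.ResidueField) :
    fibBC p p' S S' (algebraMap p.ResidueField (p.Fiber S) x) = algebraMap p'.ResidueField (p'.Fiber S') (kappaMap p p' x) := by
  show fibBC p p' S S' (x ⊗ₜ[R] (1 : S)) = _
  simp [fibBC]

/-- The fibre ring after a change of the base is the base change of the fibre ring. -/
theorem isPushout_fibBC [Algebra.IsPushout R R' S S'] :
    letI : Algebra p.ResidueField p'.ResidueField := (kappaMap p p').toRingHom.toAlgebra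
    letI : Algebra (p.Fiber S) (p'.Fiber S') := (fibBC p p' S S').toRingHom.toAlgebra
    ∃ (_ : IsScalarTower p.ResidueField p'.ResidueField (p'.Fiber S'))
      (_ : IsScalarTower p.ResidueField (p.Fiber S) (p'.Fiber S')),
      Algebra.IsPushout p.ResidueField p'.ResidueField (p.Fiber S) (p'.Fiber S') := by
  letI : Algebra p.ResidueField p'.ResidueField := (kappaMap p p').toRingHom.toAlgebra
  letI : Algebra (p.Fiber S) (p'.Fiber S') := (fibBC p p' S S').toRingHom.toAlgebra
  haveI : IsScalarTower R p.ResidueField p'.ResidueField := IsScalarTower.of_algebraMap_eq (R := R) (S := p.ResidueField)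
    (A := p'.ResidueField) fun x => ((kappaMap p p').commutes x).symm
  haveI t1 : IsScalarTower p.ResidueField p'.ResidueField (p'.Fiber S') := inferInstance
  haveI t2 : IsScalarTower p.ResidueField (p.Fiber S) (p'.Fiber S') :=
    IsScalarTower.of_algebraMap_eq (R := p.ResidueField) (S := p.Fiber S) (A := p'.Fiber S') fun x => (fibBC_left p p' S S' x).symm
  haveI : IsScalarTower R (p.Fiber S) (p'.Fiber S') := IsScalarTower.of_algebraMap_eq (R := R) (S := p.Fiber S)
    (A := p'.Fiber S') fun x => ((fibBC p p' S S').commutes x).symm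
  haveI : IsScalarTower R p.ResidueField (p'.Fiber S') := IsScalarTower.of_algebraMap_eq (R := R) (S := p.ResidueField)
    (A := p'.Fiber S') fun x => by
      rw [IsScalarTower.algebraMap_apply p.ResidueField p'.ResidueField (p'.Fiber S'),
        ← IsScalarTower.algebraMap_apply R p.ResidueField p'.ResidueField, ← IsScalarTower.algebraMap_apply R p'.ResidueField]
  haveI : IsScalarTower R S' (p'.Fiber S') := IsScalarTower.of_algebraMap_eq (R := R) (S := S') (A := p'.Fiber S') fun x => by
    rw [IsScalarTower.algebraMap_apply R R' (p'.Fiber S'), IsScalarTower.algebraMap_apply R R' S']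
    exact ((Algebra.TensorProduct.includeRight (R := R') (A := p'.ResidueField) (B := S')).commutes _).symm
  letI : Algebra S (p'.Fiber S') := ((algebraMap S' (p'.Fiber S')).comp (algebraMap S S')).toAlgebra
  haveI : IsScalarTower S S' (p'.Fiber S') := .of_algebraMap_eq' rfl
  haveI : IsScalarTower R S (p'.Fiber S') := IsScalarTower.of_algebraMap_eq (R := R) (S := S) (A := p'.Fiber S') fun x => by
    show _ = algebraMap S' (p'.Fiber S') (algebraMap S S' (algebraMap R S x))
    rw [← IsScalarTower.algebraMap_apply R S S', ← IsScalarTower.algebraMap_apply R S' (p'.Fiber S')]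
  haveI : IsScalarTower S (p.Fiber S) (p'.Fiber S') := IsScalarTower.of_algebraMap_eq (R := S) (S := p.Fiber S)
    (A := p'.Fiber S') fun x => (fibBC_ι p p' S S' x).symm
  haveI h1 : Algebra.IsPushout R' p'.ResidueField S' (p'.Fiber S') := inferInstance
  haveI h2 : Algebra.IsPushout R p'.ResidueField S (p'.Fiber S') :=
    (Algebra.IsPushout.comp_iff (R := R) (S := R') (R' := S) (S' := S') (T := p'.ResidueField) (T' := p'.Fiber S')).2 h1
  haveI h3 : Algebra.IsPushout R p.ResidueField S (p.Fiber S) := inferInstance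
  exact ⟨t1, t2, (Algebra.IsPushout.comp_iff (R := R) (S := p.ResidueField) (R' := S) (S' := p.Fiber S)
    (T := p'.ResidueField) (T' := p'.Fiber S')).1 h2⟩

variable [Algebra.IsPushout R R' S S'] (N : Type u) [AddCommGroup N] [Module S N] [Module.Finite S N]
  (N' : Type u) [AddCommGroup N'] [Module S' N'] [Module S N'] [IsScalarTower S S' N']

omit [Algebra.IsPushout R R' S S'] in
/-- The support of the fibre module is the zero locus of the extended annihilator. -/
theorem support_fiberMod_eq :
    Module.support (p.Fiber S) (FlatCA.fiberMod p S N) = PrimeSpectrum.zeroLocus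
      (((Module.annihilator S N).map (CAlgFib.ι (S := S) p) : Ideal (p.Fiber S)) : Set (p.Fiber S)) :=
  AssSupLib.support_baseChange (R := S) (R' := p.Fiber S)

/-- The fibre support after a change of the base. -/
theorem support_fiberMod_bc (f : N →ₗ[S] N') (hf : IsBaseChange S' f) :
    Module.support (p'.Fiber S') (FlatCA.fiberMod p' S' N') = PrimeSpectrum.zeroLocus
      (((Module.annihilator S N).map ((fibBC p p' S S').toRingHom.comp (CAlgFib.ι (S := S) p)) : Ideal (p'.Fiber S')) :
        Set (p'.Fiber S')) := by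
  letI : Algebra S (p'.Fiber S') := ((algebraMap S' (p'.Fiber S')).comp (algebraMap S S')).toAlgebra
  haveI : IsScalarTower S S' (p'.Fiber S') := .of_algebraMap_eq' rfl
  haveI : Module.Finite S' N' := Module.Finite.equiv hf.equiv
  let e : (p'.Fiber S') ⊗[S'] N' ≃ₗ[p'.Fiber S'] (p'.Fiber S') ⊗[S] N :=
    (AlgebraTensorModule.congr (LinearEquiv.refl (p'.Fiber S') (p'.Fiber S')) hf.equiv.symm).trans
      (AlgebraTensorModule.cancelBaseChange S S' (p'.Fiber S') (p'.Fiber S') N)
  rw [show Module.support (p'.Fiber S') (FlatCA.fiberMod p' S' N') = Module.support (p'.Fiber S') ((p'.Fiber S') ⊗[S] N) from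
    e.support_eq, AssSupLib.support_baseChange (R := S) (R' := p'.Fiber S')]
  rw [show algebraMap S (p'.Fiber S') = (fibBC p p' S S').toRingHom.comp (CAlgFib.ι (S := S) p) from
    RingHom.ext fun x => (fibBC_ι p p' S S' x).symm]

/-- The dimension of the fibre support does not change. -/
theorem supportDim_fiberMod_bc [Algebra.FiniteType R S] (f : N →ₗ[S] N') (hf : IsBaseChange S' f) :
    Module.supportDim (p'.Fiber S') (FlatCA.fiberMod p' S' N') = Module.supportDim (p.Fiber S) (FlatCA.fiberMod p S N) := by
  letI : Algebra p.ResidueField p'.ResidueField := (kappaMap p p').toRingHom.toAlgebra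
  letI : Algebra (p.Fiber S) (p'.Fiber S') := (fibBC p p' S S').toRingHom.toAlgebra
  obtain ⟨_, _, hpo⟩ := isPushout_fibBC p p' S S'
  let I : Ideal (p.Fiber S) := (Module.annihilator S N).map (CAlgFib.ι (S := S) p)
  rw [Module.supportDim, Module.supportDim, support_fiberMod_bc p p' S S' N N' f hf, support_fiberMod_eq p S N,
    ← ringKrullDim_quotient, ← ringKrullDim_quotient, show (Module.annihilator S N).map
      ((fibBC p p' S S').toRingHom.comp (CAlgFib.ι (S := S) p)) = I.map (algebraMap (p.Fiber S) (p'.Fiber S')) from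
    (Ideal.map_map _ _).symm]
  exact ringKrullDim_quotient_map (k := p.ResidueField) (k' := p'.ResidueField) I

omit [Module.Finite S N] [AddCommGroup N'] [Module S' N'] [Module S N'] [IsScalarTower S S' N'] [AddCommGroup N] [Module S N] in
/-- Without a residue field extension the fibre ring does not change. -/
theorem fibBC_bijective (hκ : Function.Bijective (kappaMap p p')) : Function.Bijective (fibBC p p' S S') := by
  letI : Algebra p.ResidueField p'.ResidueField := (kappaMap p p').toRingHom.toAlgebra
  letI : Algebra (p.Fiber S) (p'.Fiber S') := (fibBC p p' S S').toRingHom.toAlgebra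
  obtain ⟨_, _, hpo⟩ := isPushout_fibBC p p' S S'
  haveI := hpo
  let e : p.Fiber S ≃ₗ[p.ResidueField] p'.ResidueField ⊗[p.ResidueField] (p.Fiber S) :=
    (TensorProduct.lid p.ResidueField (p.Fiber S)).symm ≪≫ₗ
      LinearEquiv.rTensor (p.Fiber S) (LinearEquiv.ofBijective (Algebra.linearMap p.ResidueField p'.ResidueField) hκ)
  let E := Algebra.IsPushout.equiv p.ResidueField p'.ResidueField (p.Fiber S) (p'.Fiber S')
  have h : ⇑(fibBC p p' S S') = E ∘ e := funext fun x => by
    simp only [Function.comp_apply, e, LinearEquiv.trans_apply, TensorProduct.lid_symm_apply]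
    show algebraMap (p.Fiber S) (p'.Fiber S') x = E ((algebraMap p.ResidueField p'.ResidueField 1) ⊗ₜ[p.ResidueField] x)
    rw [map_one, Algebra.IsPushout.equiv_tmul, map_one, one_mul]
  rw [h]
  exact E.bijective.comp e.bijective

/-- The local dimension of the fibre support does not change without a residue field extension. -/
theorem locDim_fiberMod_bc (hκ : Function.Bijective (kappaMap p p')) (f : N →ₗ[S] N') (hf : IsBaseChange S' f)
    (q : Ideal S) [q.IsPrime] [q.LiesOver p] (q' : Ideal S') [q'.IsPrime] [q'.LiesOver q] [q'.LiesOver p'] {n : WithBot ℕ∞}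
    (h : ∃ (ξ : PrimeSpectrum (p.Fiber S)) (hξ : ξ ∈ Module.support (p.Fiber S) (FlatCA.fiberMod p S N)),
      ξ.asIdeal = FlatCA.fiberIdeal p q ∧
      FlatMor.localDim (Module.support (p.Fiber S) (FlatCA.fiberMod p S N)) ⟨ξ, hξ⟩ = n) :
    ∃ (ξ' : PrimeSpectrum (p'.Fiber S')) (hξ' : ξ' ∈ Module.support (p'.Fiber S') (FlatCA.fiberMod p' S' N')),
      ξ'.asIdeal = FlatCA.fiberIdeal p' q' ∧
      FlatMor.localDim (Module.support (p'.Fiber S') (FlatCA.fiberMod p' S' N')) ⟨ξ', hξ'⟩ = n := by
  obtain ⟨ξ, hξ, hξq, hn⟩ := h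
  let E : p.Fiber S ≃+* p'.Fiber S' := RingEquiv.ofBijective (fibBC p p' S S').toRingHom (fibBC_bijective p p' S S' hκ)
  let H : PrimeSpectrum (p'.Fiber S') ≃ₜ PrimeSpectrum (p.Fiber S) := (PrimeSpectrum.homeomorphOfRingEquiv E).symm
  have hH : ∀ x, (H x).asIdeal = x.asIdeal.comap (fibBC p p' S S').toRingHom := fun x => rfl
  have hsupp : Module.support (p'.Fiber S') (FlatCA.fiberMod p' S' N') =
      H ⁻¹' Module.support (p.Fiber S) (FlatCA.fiberMod p S N) := by
    ext x
    rw [support_fiberMod_bc p p' S S' N N' f hf, support_fiberMod_eq p S N, Set.mem_preimage,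
      PrimeSpectrum.mem_zeroLocus, PrimeSpectrum.mem_zeroLocus, SetLike.coe_subset_coe, SetLike.coe_subset_coe,
      ← Ideal.map_map, Ideal.map_le_iff_le_comap, hH]
  obtain ⟨hq'p, hq'ι⟩ := FibAssLib.fiberIdeal_spec p' q'
  let ξ' : PrimeSpectrum (p'.Fiber S') := ⟨_, hq'p⟩
  have hξ' : H ξ' = ξ := PrimeSpectrum.ext (by
    rw [hξq, hH]
    refine (FibAssLib.eq_fiberIdeal_of_comap p (P := ξ'.asIdeal.comap (fibBC p p' S S').toRingHom) ?_).symm
    rw [Ideal.comap_comap, show (fibBC p p' S S').toRingHom.comp (CAlgFib.ι p) = (CAlgFib.ι p').comp (algebraMap S S') from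
      RingHom.ext fun x => fibBC_ι p p' S S' x, ← Ideal.comap_comap, hq'ι]
    exact (q'.over_def q).symm)
  have hmem : ξ' ∈ Module.support (p'.Fiber S') (FlatCA.fiberMod p' S' N') := by
    rw [hsupp, Set.mem_preimage, hξ']
    exact hξ
  refine ⟨ξ', hmem, rfl, ?_⟩
  let e : Module.support (p'.Fiber S') (FlatCA.fiberMod p' S' N') ≃ₜ Module.support (p.Fiber S) (FlatCA.fiberMod p S N) :=
    (Homeomorph.setCongr hsupp).trans (H.sets rfl)
  rw [DevissLib.localDim_homeomorph e]
  have : e ⟨ξ', hmem⟩ = ⟨ξ, hξ⟩ := Subtype.ext hξ'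
  rw [this]
  exact hn

end Groth.Agent.DevBCLib
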