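import Groth.Agent.DevBCLib.ShrinkSteps

/-!
# Standard shrinkings of complete dévissages
-/

set_option autoImplicit false
set_option linter.style.haveILetI false
set_option backward.isDefEq.respectTransparency false
set_option backward.isDefEq.respectTransparency.types false
set_option maxHeartbeats 8000000
set_option synthInstance.maxHeartbeats 200000

universe u

open TensorProduct

noncomputable section

namespace Groth.Agent.DevBCLib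

-- this instance makes the search for commuting actions on quotient rings very slow
attribute [-instance] ModuleCat.sMulCommClass_mk

section Families

variable {R S N : Type u} [CommRing R] [CommRing S] [Algebra R S] [AddCommGroup N] [Module S N] {p : Ideal R} [p.IsPrime]
  (𝒟 : FlatCA.CompleteDevissage R S N p) (b : ∀ i, 𝒟.B i)

/-- The shrunk rings carrying the modules. -/
abbrev shXA (i : ℕ) : Type u := Localization.Away (algebraMap (𝒟.B i) (𝒟.A i) (b i))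

/-- The shrunk smooth algebras. -/
abbrev shXB (i : ℕ) : Type u := Localization.Away (b i)

/-- The rings carrying the modules, the tail repeating the last step. -/
abbrev shA (i : ℕ) : Type u := PK (shXA 𝒟 b i) (shXA 𝒟 b (𝒟.n - 1)) (i < 𝒟.n)

/-- The smooth algebras, the tail repeating the last step. -/
abbrev shB (i : ℕ) : Type u := PK (shXB 𝒟 b i) (shXB 𝒟 b (𝒟.n - 1)) (i < 𝒟.n)

/-- The rings acting on the modules. -/
abbrev shK (i : ℕ) : Type u := Kill (shXA 𝒟 b i) (i < 𝒟.n)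

/-- The shrunk modules. -/
abbrev shM (i : ℕ) : Type u := shK 𝒟 b i ⊗[𝒟.A i] 𝒟.M i

end Families

/-- A complete dévissage at a point shrinks to standard opens given compatible elements of the smooth algebras. -/
theorem exists_shrink_complete
    (R S : Type u) [CommRing R] [CommRing S] [Algebra R S] [Algebra.FiniteType R S]
    (N : Type u) [AddCommGroup N] [Module S N] [Module.Finite S N]
    (p : Ideal R) [p.IsPrime] (q : Ideal S) [q.IsPrime] (𝒟 : FlatCA.CompleteDevissage R S N p)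
    (𝒜 : FlatCA.CompleteDevissageAt R S N p q 𝒟)
    (c : ∀ i, 𝒟.B i) (hc : ∀ i, i < 𝒟.n → c i ∉ 𝒜.qB i)
    (hcc : ∀ i, i + 1 < 𝒟.n → algebraMap (𝒟.B i) (𝒟.A (i + 1)) (c i) = algebraMap (𝒟.B (i + 1)) (𝒟.A (i + 1)) (c (i + 1)))
    (s₀ : S) (hs₀ : algebraMap S (𝒟.A 0) s₀ = algebraMap (𝒟.B 0) (𝒟.A 0) (c 0)) :
    ∃ (g : R) (hX : S), g ∉ p ∧ hX ∉ q ∧ s₀ ∣ hX ∧
      ∃ (_ : Algebra (Localization.Away g) (Localization.Away hX)) (_ : IsScalarTower R (Localization.Away g) (Localization.Away hX))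
        (_ : Module (Localization.Away g) (LocalizedModule (Submonoid.powers hX) N)) (_ : IsScalarTower (Localization.Away g) (Localization.Away hX) (LocalizedModule (Submonoid.powers hX) N))
        (_ : (Ideal.map (algebraMap R (Localization.Away g)) p).IsPrime) (_ : (Ideal.map (algebraMap S (Localization.Away hX)) q).IsPrime)
        (𝒟' : FlatCA.CompleteDevissage (Localization.Away g) (Localization.Away hX) (LocalizedModule (Submonoid.powers hX) N) (Ideal.map (algebraMap R (Localization.Away g)) p))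
        (𝒜' : FlatCA.CompleteDevissageAt (Localization.Away g) (Localization.Away hX) (LocalizedModule (Submonoid.powers hX) N) (Ideal.map (algebraMap R (Localization.Away g)) p) (Ideal.map (algebraMap S (Localization.Away hX)) q) 𝒟')
        (a : ∀ i : Fin 𝒟.n, 𝒟.A i) (b : ∀ i : Fin 𝒟.n, 𝒟.B i)
      (aA : ∀ i : Fin 𝒟.n, Algebra (𝒟.A i) (𝒟'.A i)) (rA : ∀ i : Fin 𝒟.n, Algebra R (𝒟'.A i))
      (_t1 : ∀ i : Fin 𝒟.n, IsScalarTower R (Localization.Away g) (𝒟'.A i)) (_t2 : ∀ i : Fin 𝒟.n, IsScalarTower R (𝒟.A i) (𝒟'.A i))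
      (aB : ∀ i : Fin 𝒟.n, Algebra (𝒟.B i) (𝒟'.B i)) (rB : ∀ i : Fin 𝒟.n, Algebra R (𝒟'.B i))
      (_t3 : ∀ i : Fin 𝒟.n, IsScalarTower R (Localization.Away g) (𝒟'.B i)) (_t4 : ∀ i : Fin 𝒟.n, IsScalarTower R (𝒟.B i) (𝒟'.B i))
      (bA : ∀ i : Fin 𝒟.n, Algebra (𝒟.B i) (𝒟'.A i)) (_t5 : ∀ i : Fin 𝒟.n, IsScalarTower (𝒟.B i) (𝒟.A i) (𝒟'.A i))
      (_t6 : ∀ i : Fin 𝒟.n, IsScalarTower (𝒟.B i) (𝒟'.B i) (𝒟'.A i))
      (bA' : ∀ i : Fin 𝒟.n, Algebra (𝒟.B i) (𝒟'.A (i + 1)))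
      (_t7 : ∀ i : Fin 𝒟.n, IsScalarTower (𝒟.B i) (𝒟'.B i) (𝒟'.A (i + 1)))
      (sA : Algebra S (𝒟'.A 0)) (_t8 : IsScalarTower S (Localization.Away hX) (𝒟'.A 0))
      (mA : ∀ i : Fin 𝒟.n, Module (𝒟.A i) (𝒟'.M i)) (_t9 : ∀ i : Fin 𝒟.n, IsScalarTower (𝒟.A i) (𝒟'.A i) (𝒟'.M i))
      (gM : ∀ i : Fin 𝒟.n, 𝒟.M i →ₗ[𝒟.A i] 𝒟'.M i),
        𝒟'.n = 𝒟.n ∧ 𝒟'.r = 𝒟.r ∧ 𝒜'.d = 𝒜.d ∧
        (letI := aA ⟨0, 𝒟.pos⟩; IsScalarTower S (𝒟.A 0) (𝒟'.A 0)) ∧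
      (∀ x : N, 𝒟'.isoN (LocalizedModule.mkLinearMap (Submonoid.powers hX) N x) = gM ⟨0, 𝒟.pos⟩ (𝒟.isoN x)) ∧
      (∀ (i : Fin 𝒟.n) (h : (i : ℕ) + 1 < 𝒟.n),
        letI := aA ⟨i + 1, h⟩; IsScalarTower (𝒟.B i) (𝒟.A (i + 1)) (𝒟'.A (i + 1))) ∧
        (∀ i : Fin 𝒟.n, b i = c i * algebraMap R (𝒟.B i) g) ∧
        ∀ i : Fin 𝒟.n,
          a i ∉ 𝒜.qA i ∧ b i ∉ 𝒜.qB i ∧
          IsLocalization.Away (a i) (𝒟'.A i) ∧ IsLocalization.Away (b i) (𝒟'.B i) ∧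
          IsLocalizedModule (Submonoid.powers (a i)) (gM i) ∧
          (𝒜'.qA i).LiesOver (𝒜.qA i) ∧ (𝒜'.qB i).LiesOver (𝒜.qB i) ∧
          LinearMap.range (𝒟'.α i) =
            Submodule.span (𝒟'.B i) ((gM i) '' (LinearMap.range (𝒟.α i) : Set (𝒟.M i))) := by
  classical
  haveI hqA := 𝒜.hqA
  haveI hqB := 𝒜.hqB
  haveI hsm : ∀ i : Fin 𝒟.n, Algebra.Smooth R (𝒟.B i) := fun i => 𝒟.smooth i i.2
  haveI hoB := 𝒜.overB
  haveI hoA := 𝒜.overA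
  have hopen : ∀ i : Fin 𝒟.n, ∃ f : R, f ∉ p ∧ ∀ Q : PrimeSpectrum R, f ∉ Q.asIdeal →
      ∃ Q' : PrimeSpectrum (𝒟.B i), c i ∉ Q'.asIdeal ∧ PrimeSpectrum.comap (algebraMap R (𝒟.B i)) Q' = Q :=
    fun i => DevLib.exists_basicOpen_subset_image (c i) p (𝒜.qB i) (hc i i.2)
  choose f hf himg using hopen
  let g : R := ∏ i, f i
  have hg : g ∉ p := Submonoid.prod_mem p.primeCompl fun i _ => hf i
  have hfg : ∀ i, f i ∣ g := fun i => Finset.dvd_prod_of_mem f (Finset.mem_univ i)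
  let b : ∀ i, 𝒟.B i := fun i => c i * algebraMap R (𝒟.B i) g
  let hX : S := s₀ * algebraMap R S g
  have hXa : algebraMap S (𝒟.A 0) hX = algebraMap (𝒟.B 0) (𝒟.A 0) (b 0) := by
    simp only [hX, b, map_mul, hs₀, ← IsScalarTower.algebraMap_apply R S (𝒟.A 0),
      ← IsScalarTower.algebraMap_apply R (𝒟.B 0) (𝒟.A 0)]
  have hbb : ∀ i, i + 1 < 𝒟.n →
      algebraMap (𝒟.B i) (𝒟.A (i + 1)) (b i) = algebraMap (𝒟.B (i + 1)) (𝒟.A (i + 1)) (b (i + 1)) := fun i hi => by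
    simp only [b, map_mul, hcc i hi, ← IsScalarTower.algebraMap_apply R (𝒟.B i) (𝒟.A (i + 1)),
      ← IsScalarTower.algebraMap_apply R (𝒟.B (i + 1)) (𝒟.A (i + 1))]
  have hbq : ∀ i, i < 𝒟.n → b i ∉ 𝒜.qB i := fun i hi hm => ((hqB i).mem_or_mem hm).elim (hc i hi)
    fun hm' => hg ((Ideal.mem_of_liesOver (𝒜.qB i) p g).2 hm')
  have haq : ∀ i, i < 𝒟.n → algebraMap (𝒟.B i) (𝒟.A i) (b i) ∉ 𝒜.qA i := fun i hi hm =>
    hbq i hi ((Ideal.mem_of_liesOver (𝒜.qA i) (𝒜.qB i) (b i)).2 hm)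
  have hXq : hX ∉ q := fun hm => haq 0 𝒟.pos (hXa ▸ (𝒜.q0.ge hm))
  refine ⟨g, hX, hg, hXq, dvd_mul_right _ _, ?_⟩
  let R' := Localization.Away g
  let S' := Localization.Away hX
  let N' := LocalizedModule (Submonoid.powers hX) N
  -- the localised rings
  have uX : ∀ i, IsUnit (algebraMap R (shXB 𝒟 b i) g) := fun i => by
    rw [IsScalarTower.algebraMap_apply R (𝒟.B i) (shXB 𝒟 b i)]
    exact isUnit_of_dvd_unit (map_dvd _ (dvd_mul_left _ (c i))) (IsLocalization.Away.algebraMap_isUnit (b i))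
  have uS : IsUnit (algebraMap R S' g) := by
    rw [IsScalarTower.algebraMap_apply R S S']
    exact isUnit_of_dvd_unit (map_dvd _ (dvd_mul_left _ s₀)) (IsLocalization.Away.algebraMap_isUnit hX)
  letI aRS : Algebra R' S' := (IsLocalization.Away.lift (S := R') g (g := algebraMap R S') uS).toAlgebra
  haveI tRS : IsScalarTower R R' S' := .of_algebraMap_eq fun x => (IsLocalization.Away.lift_eq g uS x).symm
  letI aRXB : ∀ i, Algebra R' (shXB 𝒟 b i) := fun i =>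
    (IsLocalization.Away.lift (S := R') g (g := algebraMap R (shXB 𝒟 b i)) (uX i)).toAlgebra
  haveI tRXB : ∀ i, IsScalarTower R R' (shXB 𝒟 b i) := fun i =>
    .of_algebraMap_eq fun x => (IsLocalization.Away.lift_eq g (uX i) x).symm
  letI aXX : ∀ i, Algebra (shXB 𝒟 b i) (shXA 𝒟 b i) := fun i =>
    (IsLocalization.Away.lift (S := shXB 𝒟 b i) (b i) (g := algebraMap (𝒟.B i) (shXA 𝒟 b i)) (by
      rw [IsScalarTower.algebraMap_apply (𝒟.B i) (𝒟.A i) (shXA 𝒟 b i)]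
      exact IsLocalization.Away.algebraMap_isUnit (algebraMap (𝒟.B i) (𝒟.A i) (b i)))).toAlgebra
  haveI tXX : ∀ i, IsScalarTower (𝒟.B i) (shXB 𝒟 b i) (shXA 𝒟 b i) := fun i =>
    .of_algebraMap_eq fun x => (IsLocalization.Away.lift_eq (b i) _ x).symm
  letI aRXA : ∀ i, Algebra R' (shXA 𝒟 b i) := fun i =>
    ((algebraMap (shXB 𝒟 b i) (shXA 𝒟 b i)).comp (algebraMap R' (shXB 𝒟 b i))).toAlgebra
  haveI tRXX : ∀ i, IsScalarTower R' (shXB 𝒟 b i) (shXA 𝒟 b i) := fun i => .of_algebraMap_eq' rfl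
  haveI tRXA : ∀ i, IsScalarTower R R' (shXA 𝒟 b i) := fun i => .of_algebraMap_eq fun x => by
    rw [IsScalarTower.algebraMap_apply R' (shXB 𝒟 b i) (shXA 𝒟 b i), ← IsScalarTower.algebraMap_apply R R' (shXB 𝒟 b i),
      IsScalarTower.algebraMap_apply R (𝒟.B i) (shXB 𝒟 b i), ← IsScalarTower.algebraMap_apply (𝒟.B i) (shXB 𝒟 b i) (shXA 𝒟 b i),
      IsScalarTower.algebraMap_apply (𝒟.B i) (𝒟.A i) (shXA 𝒟 b i), ← IsScalarTower.algebraMap_apply R (𝒟.B i) (𝒟.A i),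
      ← IsScalarTower.algebraMap_apply R (𝒟.A i) (shXA 𝒟 b i)]
  -- the finite maps
  let βX : ∀ i, shXB 𝒟 b i →ₐ[R'] shXA 𝒟 b i := fun i => IsScalarTower.toAlgHom R' _ _
  let β : ∀ i, shB 𝒟 b i →ₐ[R'] shA 𝒟 b i := fun i => pkMap (βX i) (βX (𝒟.n - 1))
  letI aBA : ∀ i, Algebra (shB 𝒟 b i) (shA 𝒟 b i) := fun i => (β i).toRingHom.toAlgebra
  haveI tBA : ∀ i, IsScalarTower R' (shB 𝒟 b i) (shA 𝒟 b i) := fun i => .of_algebraMap_eq fun x => ((β i).commutes x).symm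
  letI aAK : ∀ i, Algebra (shA 𝒟 b i) (shK 𝒟 b i) := fun i => (RingHom.fst _ _).toAlgebra
  haveI tRAK : ∀ i, IsScalarTower R' (shA 𝒟 b i) (shK 𝒟 b i) := fun i => .of_algebraMap_eq' rfl
  letI aBK : ∀ i, Algebra (shB 𝒟 b i) (shK 𝒟 b i) := fun i =>
    ((algebraMap (shA 𝒟 b i) (shK 𝒟 b i)).comp (algebraMap (shB 𝒟 b i) (shA 𝒟 b i))).toAlgebra
  haveI tBAK : ∀ i, IsScalarTower (shB 𝒟 b i) (shA 𝒟 b i) (shK 𝒟 b i) := fun i => .of_algebraMap_eq' rfl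
  haveI tRBK : ∀ i, IsScalarTower R' (shB 𝒟 b i) (shK 𝒟 b i) := fun i => .of_algebraMap_eq fun x => by
    rw [IsScalarTower.algebraMap_apply (shB 𝒟 b i) (shA 𝒟 b i) (shK 𝒟 b i), ← IsScalarTower.algebraMap_apply R' (shB 𝒟 b i) (shA 𝒟 b i),
      ← IsScalarTower.algebraMap_apply R' (shA 𝒟 b i) (shK 𝒟 b i)]
  -- the maps to the next step
  have hnextmap : ∀ i, ∃ φ : shB 𝒟 b i →ₐ[R'] shK 𝒟 b (i + 1), ∀ (_ : i + 1 < 𝒟.n) (hi : i < 𝒟.n) (x : 𝒟.B i),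
      φ (pkL (R' := R') (shXB 𝒟 b (𝒟.n - 1)) hi (algebraMap (𝒟.B i) (shXB 𝒟 b i) x)) =
        algebraMap (𝒟.A (i + 1)) (shK 𝒟 b (i + 1)) (algebraMap (𝒟.B i) (𝒟.A (i + 1)) x) := by
    intro i
    let φ₀ : 𝒟.B i →+* shK 𝒟 b (i + 1) := (algebraMap (𝒟.A (i + 1)) (shK 𝒟 b (i + 1))).comp (algebraMap (𝒟.B i) (𝒟.A (i + 1)))
    have hu : IsUnit (φ₀ (b i)) := by
      by_cases hi : i + 1 < 𝒟.n
      · show IsUnit (algebraMap (𝒟.A (i + 1)) (shK 𝒟 b (i + 1)) _)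
        rw [hbb i hi]
        exact (IsLocalization.Away.algebraMap_isUnit (S := shXA 𝒟 b (i + 1))
          (algebraMap (𝒟.B (i + 1)) (𝒟.A (i + 1)) (b (i + 1)))).map (Ideal.Quotient.mk _)
      · haveI := subsingleton_kill (X := shXA 𝒟 b (i + 1)) hi
        exact isUnit_of_subsingleton _
    let φ₁ : shXB 𝒟 b i →+* shK 𝒟 b (i + 1) := IsLocalization.Away.lift (b i) hu
    have hlin : φ₁.comp (algebraMap R' (shXB 𝒟 b i)) = algebraMap R' (shK 𝒟 b (i + 1)) :=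
      IsLocalization.ringHom_ext (Submonoid.powers g) (RingHom.ext fun x => by
        show φ₁ (algebraMap R' (shXB 𝒟 b i) (algebraMap R R' x)) = algebraMap R' (shK 𝒟 b (i + 1)) (algebraMap R R' x)
        rw [← IsScalarTower.algebraMap_apply R R' (shXB 𝒟 b i), IsScalarTower.algebraMap_apply R (𝒟.B i) (shXB 𝒟 b i),
          IsLocalization.Away.lift_eq (b i) hu]
        show Ideal.Quotient.mk _ (algebraMap (𝒟.A (i + 1)) (shXA 𝒟 b (i + 1)) (algebraMap (𝒟.B i) (𝒟.A (i + 1)) (algebraMap R (𝒟.B i) x))) =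
          Ideal.Quotient.mk _ (algebraMap R' (shXA 𝒟 b (i + 1)) (algebraMap R R' x))
        rw [← IsScalarTower.algebraMap_apply R (𝒟.B i) (𝒟.A (i + 1)), ← IsScalarTower.algebraMap_apply R (𝒟.A (i + 1)) (shXA 𝒟 b (i + 1)),
          ← IsScalarTower.algebraMap_apply R R' (shXA 𝒟 b (i + 1))])
    let φ₂ : shXB 𝒟 b i →ₐ[R'] shK 𝒟 b (i + 1) := { φ₁ with commutes' := fun x => RingHom.congr_fun hlin x }
    refine ⟨(killLift φ₂ fun h => subsingleton_kill fun h' => h (Nat.lt_of_succ_lt h')).comp (AlgHom.fst R' _ _),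
      fun _ _ x => ?_⟩
    show φ₁ (algebraMap (𝒟.B i) (shXB 𝒟 b i) x) = _
    rw [IsLocalization.Away.lift_eq (b i) hu]
    rfl
  choose φ hφ using hnextmap
  have hnexttail : ∀ i, Nonempty (shB 𝒟 b i →ₐ[R'] Kill (shXA 𝒟 b (𝒟.n - 1)) (¬ (i + 1 < 𝒟.n))) := by
    intro i
    by_cases h1 : i + 1 < 𝒟.n
    · haveI := subsingleton_kill (X := shXA 𝒟 b (𝒟.n - 1)) (c := ¬ (i + 1 < 𝒟.n)) (not_not_intro h1)
      exact ⟨toZero⟩
    by_cases h2 : i < 𝒟.n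
    · obtain rfl : i = 𝒟.n - 1 := by omega
      exact ⟨((Ideal.Quotient.mkₐ R' _).comp (βX (𝒟.n - 1))).comp
        ((killLift (AlgHom.id R' (shXB 𝒟 b (𝒟.n - 1))) fun h => absurd h2 h).comp (AlgHom.fst R' _ _))⟩
    · exact ⟨((Ideal.Quotient.mkₐ R' _).comp (βX (𝒟.n - 1))).comp
        ((killLift (AlgHom.id R' (shXB 𝒟 b (𝒟.n - 1))) fun h => absurd h2 h).comp (AlgHom.snd R' _ _))⟩
  let β' : ∀ i, shB 𝒟 b i →ₐ[R'] shA 𝒟 b (i + 1) := fun i => AlgHom.prod (φ i) (hnexttail i).some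
  letI aBA' : ∀ i, Algebra (shB 𝒟 b i) (shA 𝒟 b (i + 1)) := fun i => (β' i).toRingHom.toAlgebra
  haveI tBA' : ∀ i, IsScalarTower R' (shB 𝒟 b i) (shA 𝒟 b (i + 1)) := fun i =>
    .of_algebraMap_eq fun x => ((β' i).commutes x).symm
  letI aBK' : ∀ i, Algebra (shB 𝒟 b i) (shK 𝒟 b (i + 1)) := fun i => (φ i).toRingHom.toAlgebra
  haveI tBAK' : ∀ i, IsScalarTower (shB 𝒟 b i) (shA 𝒟 b (i + 1)) (shK 𝒟 b (i + 1)) := fun i => .of_algebraMap_eq fun _ => rfl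
  -- the algebras below the length
  letI aA : ∀ i : Fin 𝒟.n, Algebra (𝒟.A i) (shA 𝒟 b i) := fun i =>
    ((pkL (R' := R') (shXA 𝒟 b (𝒟.n - 1)) i.2).toRingHom.comp (algebraMap (𝒟.A i) (shXA 𝒟 b i))).toAlgebra
  haveI t2 : ∀ i : Fin 𝒟.n, IsScalarTower R (𝒟.A i) (shA 𝒟 b i) := fun i => .of_algebraMap_eq fun x => by
    show _ = pkL (R' := R') (shXA 𝒟 b (𝒟.n - 1)) i.2 (algebraMap (𝒟.A i) (shXA 𝒟 b i) (algebraMap R (𝒟.A i) x))
    rw [← IsScalarTower.algebraMap_apply R (𝒟.A i) (shXA 𝒟 b i), IsScalarTower.algebraMap_apply R R' (shXA 𝒟 b i),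
      AlgHom.commutes, ← IsScalarTower.algebraMap_apply R R' (shA 𝒟 b i)]
  letI aB : ∀ i : Fin 𝒟.n, Algebra (𝒟.B i) (shB 𝒟 b i) := fun i =>
    ((pkL (R' := R') (shXB 𝒟 b (𝒟.n - 1)) i.2).toRingHom.comp (algebraMap (𝒟.B i) (shXB 𝒟 b i))).toAlgebra
  haveI t4 : ∀ i : Fin 𝒟.n, IsScalarTower R (𝒟.B i) (shB 𝒟 b i) := fun i => .of_algebraMap_eq fun x => by
    show _ = pkL (R' := R') (shXB 𝒟 b (𝒟.n - 1)) i.2 (algebraMap (𝒟.B i) (shXB 𝒟 b i) (algebraMap R (𝒟.B i) x))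
    rw [← IsScalarTower.algebraMap_apply R (𝒟.B i) (shXB 𝒟 b i), IsScalarTower.algebraMap_apply R R' (shXB 𝒟 b i),
      AlgHom.commutes, ← IsScalarTower.algebraMap_apply R R' (shB 𝒟 b i)]
  letI bA : ∀ i : Fin 𝒟.n, Algebra (𝒟.B i) (shA 𝒟 b i) := fun i =>
    ((algebraMap (shB 𝒟 b i) (shA 𝒟 b i)).comp (algebraMap (𝒟.B i) (shB 𝒟 b i))).toAlgebra
  haveI t6 : ∀ i : Fin 𝒟.n, IsScalarTower (𝒟.B i) (shB 𝒟 b i) (shA 𝒟 b i) := fun i => .of_algebraMap_eq' rfl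
  haveI t5 : ∀ i : Fin 𝒟.n, IsScalarTower (𝒟.B i) (𝒟.A i) (shA 𝒟 b i) := fun i => .of_algebraMap_eq fun x => by
    show pkMap (βX i) (βX (𝒟.n - 1)) (pkL (R' := R') (shXB 𝒟 b (𝒟.n - 1)) i.2 (algebraMap (𝒟.B i) (shXB 𝒟 b i) x)) =
      pkL (R' := R') (shXA 𝒟 b (𝒟.n - 1)) i.2 (algebraMap (𝒟.A i) (shXA 𝒟 b i) (algebraMap (𝒟.B i) (𝒟.A i) x))
    rw [pkMap_pkL, ← IsScalarTower.algebraMap_apply (𝒟.B i) (𝒟.A i) (shXA 𝒟 b i)]
    exact congrArg _ (IsScalarTower.algebraMap_apply (𝒟.B i) (shXB 𝒟 b i) (shXA 𝒟 b i) x).symm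
  letI bA' : ∀ i : Fin 𝒟.n, Algebra (𝒟.B i) (shA 𝒟 b (i + 1)) := fun i =>
    ((algebraMap (shB 𝒟 b i) (shA 𝒟 b (i + 1))).comp (algebraMap (𝒟.B i) (shB 𝒟 b i))).toAlgebra
  haveI t7 : ∀ i : Fin 𝒟.n, IsScalarTower (𝒟.B i) (shB 𝒟 b i) (shA 𝒟 b (i + 1)) := fun i => .of_algebraMap_eq' rfl
  have t5' : ∀ (i : Fin 𝒟.n) (h : (i : ℕ) + 1 < 𝒟.n),
      letI := aA ⟨i + 1, h⟩; IsScalarTower (𝒟.B i) (𝒟.A (i + 1)) (shA 𝒟 b (i + 1)) := fun i h => by
    letI : Algebra (𝒟.A (i + 1)) (shA 𝒟 b (i + 1)) := aA ⟨i + 1, h⟩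
    haveI := subsingleton_kill (X := shXA 𝒟 b (𝒟.n - 1)) (c := ¬ ((i : ℕ) + 1 < 𝒟.n)) (not_not_intro h)
    exact .of_algebraMap_eq fun x => Prod.ext (hφ i h i.2 x) (Subsingleton.elim _ _)
  -- localisations below the length
  haveI lA : ∀ i : Fin 𝒟.n, IsLocalization.Away (algebraMap (𝒟.B i) (𝒟.A i) (b i)) (shA 𝒟 b i) := fun i =>
    away_of_bijective (X := shXA 𝒟 b i) _ (pkL (R' := R') (shXA 𝒟 b (𝒟.n - 1)) i.2).toRingHom (pkL_bijective i.2) fun _ => rfl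
  haveI lB : ∀ i : Fin 𝒟.n, IsLocalization.Away (b i) (shB 𝒟 b i) := fun i =>
    away_of_bijective (X := shXB 𝒟 b i) _ (pkL (R' := R') (shXB 𝒟 b (𝒟.n - 1)) i.2).toRingHom (pkL_bijective i.2) fun _ => rfl
  haveI lK : ∀ i : Fin 𝒟.n, IsLocalization.Away (algebraMap (𝒟.B i) (𝒟.A i) (b i)) (shK 𝒟 b i) := fun i =>
    away_of_bijective (X := shXA 𝒟 b i) _ (Ideal.Quotient.mk (killI (shXA 𝒟 b i) ((i : ℕ) < 𝒟.n)))
      (kill_bijective (R' := R') i.2) fun _ => rfl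
  -- the modules
  haveI tAK : ∀ i : Fin 𝒟.n, IsScalarTower (𝒟.A i) (shA 𝒟 b i) (shK 𝒟 b i) := fun i => .of_algebraMap_eq fun _ => rfl
  haveI tBK : ∀ i : Fin 𝒟.n, IsScalarTower (𝒟.B i) (shB 𝒟 b i) (shK 𝒟 b i) := fun i => .of_algebraMap_eq fun x => by
    rw [IsScalarTower.algebraMap_apply (shB 𝒟 b i) (shA 𝒟 b i) (shK 𝒟 b i), ← IsScalarTower.algebraMap_apply (𝒟.B i) (shB 𝒟 b i) (shA 𝒟 b i),
      IsScalarTower.algebraMap_apply (𝒟.B i) (𝒟.A i) (shA 𝒟 b i), ← IsScalarTower.algebraMap_apply (𝒟.A i) (shA 𝒟 b i) (shK 𝒟 b i),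
      ← IsScalarTower.algebraMap_apply (𝒟.B i) (𝒟.A i) (shK 𝒟 b i)]
  haveI tBM : ∀ i, IsScalarTower (shB 𝒟 b i) (shA 𝒟 b i) (shM 𝒟 b i) := fun i => inferInstance
  haveI tRM : ∀ i, IsScalarTower R' (shB 𝒟 b i) (shM 𝒟 b i) := fun i => inferInstance
  haveI tB'M : ∀ i, IsScalarTower (shB 𝒟 b i) (shA 𝒟 b (i + 1)) (shM 𝒟 b (i + 1)) := fun i => inferInstance
  haveI t9 : ∀ i : Fin 𝒟.n, IsScalarTower (𝒟.A i) (shA 𝒟 b i) (shM 𝒟 b i) := fun i => inferInstance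
  haveI tBBM : ∀ i : Fin 𝒟.n, IsScalarTower (𝒟.B i) (shB 𝒟 b i) (shM 𝒟 b i) := fun i => inferInstance
  haveI tBAM : ∀ i, IsScalarTower (𝒟.B i) (𝒟.A i) (shM 𝒟 b i) := fun i => inferInstance
  let gM : ∀ i, 𝒟.M i →ₗ[𝒟.A i] shM 𝒟 b i := fun i => TensorProduct.mk (𝒟.A i) (shK 𝒟 b i) (𝒟.M i) 1
  have hgM : ∀ i : Fin 𝒟.n, IsLocalizedModule (Submonoid.powers (algebraMap (𝒟.B i) (𝒟.A i) (b i))) (gM i) := fun i =>
    (isLocalizedModule_iff_isBaseChange _ (shK 𝒟 b i) _).2 (TensorProduct.isBaseChange _ _ _)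
  have hgB : ∀ i : Fin 𝒟.n, IsBaseChange (shB 𝒟 b i) ((gM i).restrictScalars (𝒟.B i)) := fun i => by
    haveI := hgM i
    exact (isLocalizedModule_iff_isBaseChange (Submonoid.powers (b i)) (shB 𝒟 b i) _).1
      (IsLocalizedModule.restrictScalars_powers (b i) (gM i))
  -- the step at the module
  letI sA : Algebra S (shA 𝒟 b 0) :=
    ((algebraMap (𝒟.A (⟨0, 𝒟.pos⟩ : Fin 𝒟.n)) (shA 𝒟 b (⟨0, 𝒟.pos⟩ : Fin 𝒟.n))).comp (algebraMap S (𝒟.A 0))).toAlgebra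
  letI aA0 : Algebra (𝒟.A 0) (shA 𝒟 b 0) := aA ⟨0, 𝒟.pos⟩
  haveI lA0 : IsLocalization.Away (algebraMap S (𝒟.A 0) hX) (shA 𝒟 b 0) := by
    rw [hXa]
    exact lA ⟨0, 𝒟.pos⟩
  haveI tS0 : IsScalarTower S (𝒟.A 0) (shA 𝒟 b 0) := .of_algebraMap_eq' rfl
  have uS0 : IsUnit (algebraMap S (shA 𝒟 b 0) hX) := by
    rw [IsScalarTower.algebraMap_apply S (𝒟.A 0) (shA 𝒟 b 0)]
    exact IsLocalization.Away.algebraMap_isUnit (algebraMap S (𝒟.A 0) hX)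
  letI aS'A : Algebra S' (shA 𝒟 b 0) := (IsLocalization.Away.lift (S := S') hX (g := algebraMap S (shA 𝒟 b 0)) uS0).toAlgebra
  haveI t8 : IsScalarTower S S' (shA 𝒟 b 0) := .of_algebraMap_eq fun x => (IsLocalization.Away.lift_eq hX uS0 x).symm
  haveI tRS'A : IsScalarTower R' S' (shA 𝒟 b 0) := IsScalarTower.of_algebraMap_eq' (IsLocalization.ringHom_ext (Submonoid.powers g)
    (RingHom.ext fun x => by
      show algebraMap R' (shA 𝒟 b 0) (algebraMap R R' x) = algebraMap S' (shA 𝒟 b 0) (algebraMap R' S' (algebraMap R R' x))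
      haveI : IsScalarTower R (𝒟.A 0) (shA 𝒟 b 0) := t2 ⟨0, 𝒟.pos⟩
      rw [← IsScalarTower.algebraMap_apply R R' (shA 𝒟 b 0), ← IsScalarTower.algebraMap_apply R R' S',
        IsScalarTower.algebraMap_apply R S S', ← IsScalarTower.algebraMap_apply S S' (shA 𝒟 b 0),
        IsScalarTower.algebraMap_apply S (𝒟.A 0) (shA 𝒟 b 0), ← IsScalarTower.algebraMap_apply R S (𝒟.A 0),
        ← IsScalarTower.algebraMap_apply R (𝒟.A 0) (shA 𝒟 b 0)]))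
  haveI lK0 : IsLocalization.Away (algebraMap S (𝒟.A 0) hX) (shK 𝒟 b 0) := by
    rw [hXa]
    exact lK ⟨0, 𝒟.pos⟩
  letI aS'K : Algebra S' (shK 𝒟 b 0) :=
    ((algebraMap (shA 𝒟 b 0) (shK 𝒟 b 0)).comp (algebraMap S' (shA 𝒟 b 0))).toAlgebra
  haveI tS'AK : IsScalarTower S' (shA 𝒟 b 0) (shK 𝒟 b 0) := .of_algebraMap_eq' rfl
  haveI tSS'K : IsScalarTower S S' (shK 𝒟 b 0) := .of_algebraMap_eq fun x => by
    haveI : IsScalarTower (𝒟.A 0) (shA 𝒟 b 0) (shK 𝒟 b 0) := tAK ⟨0, 𝒟.pos⟩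
    rw [IsScalarTower.algebraMap_apply S' (shA 𝒟 b 0) (shK 𝒟 b 0), ← IsScalarTower.algebraMap_apply S S' (shA 𝒟 b 0),
      IsScalarTower.algebraMap_apply S (𝒟.A 0) (shA 𝒟 b 0), ← IsScalarTower.algebraMap_apply (𝒟.A 0) (shA 𝒟 b 0) (shK 𝒟 b 0),
      ← IsScalarTower.algebraMap_apply S (𝒟.A 0) (shK 𝒟 b 0)]
  haveI tS'M : IsScalarTower S' (shA 𝒟 b 0) (shM 𝒟 b 0) := inferInstance
  haveI : IsScalarTower S S' (shM 𝒟 b 0) := inferInstance
  haveI : IsScalarTower S (𝒟.A 0) (shM 𝒟 b 0) := inferInstance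
  letI mRN : Module R' N' := Module.compHom _ (algebraMap R' S')
  haveI tN : IsScalarTower R' S' N' := IsScalarTower.of_algebraMap_smul fun _ _ => rfl
  haveI hgM0 : IsLocalizedModule (Submonoid.powers (algebraMap S (𝒟.A 0) hX)) (gM 0) := by
    rw [hXa]
    exact hgM ⟨0, 𝒟.pos⟩
  haveI : IsLocalizedModule (Submonoid.powers hX) ((gM 0).restrictScalars S) := IsLocalizedModule.restrictScalars_powers hX (gM 0)
  let ψN : N →ₗ[S] shM 𝒟 b 0 := ((gM 0).restrictScalars S).comp 𝒟.isoN.toLinearMap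
  haveI : IsLocalizedModule (Submonoid.powers hX) ψN := IsLocalizedModule.of_linearEquiv_right (Submonoid.powers hX) _ 𝒟.isoN
  let eN : N' ≃ₗ[S'] shM 𝒟 b 0 :=
    (IsLocalizedModule.linearEquiv (Submonoid.powers hX) (LocalizedModule.mkLinearMap (Submonoid.powers hX) N) ψN).extendScalarsOfIsLocalization
      (Submonoid.powers hX) S'
  -- the primes
  let p' := p.map (algebraMap R R')
  have dp : Disjoint (Submonoid.powers g : Set R) p :=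
    (Ideal.disjoint_powers_iff_notMem g (inferInstance : p.IsPrime).isRadical).2 hg
  haveI hp' : p'.IsPrime := IsLocalization.isPrime_of_isPrime_disjoint (Submonoid.powers g) _ p inferInstance dp
  haveI op' : p'.LiesOver p := IsLocalization.liesOver_map_of_isPrime_disjoint (Submonoid.powers g) _ dp
  have dq : Disjoint (Submonoid.powers hX : Set S) q :=
    (Ideal.disjoint_powers_iff_notMem hX (inferInstance : q.IsPrime).isRadical).2 hXq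
  let q' := q.map (algebraMap S S')
  haveI hq' : q'.IsPrime := IsLocalization.isPrime_of_isPrime_disjoint (Submonoid.powers hX) _ q inferInstance dq
  haveI : q'.LiesOver q := IsLocalization.liesOver_map_of_isPrime_disjoint (Submonoid.powers hX) _ dq
  have hprime : ∀ i, i < 𝒟.n → ∃ P₀ : Ideal (shXA 𝒟 b i), P₀.IsPrime ∧ P₀.comap (algebraMap R' (shXA 𝒟 b i)) = p' ∧
      P₀.comap (algebraMap (𝒟.A i) (shXA 𝒟 b i)) = 𝒜.qA i := by
    intro i hi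
    have hd : Disjoint (Submonoid.powers (algebraMap (𝒟.B i) (𝒟.A i) (b i)) : Set (𝒟.A i)) (𝒜.qA i) :=
      (Ideal.disjoint_powers_iff_notMem _ (hqA i).isRadical).2 (haq i hi)
    haveI := IsLocalization.isPrime_of_isPrime_disjoint (Submonoid.powers (algebraMap (𝒟.B i) (𝒟.A i) (b i))) (shXA 𝒟 b i) (𝒜.qA i) (hqA i) hd
    have hcom : ((𝒜.qA i).map (algebraMap (𝒟.A i) (shXA 𝒟 b i))).comap (algebraMap (𝒟.A i) (shXA 𝒟 b i)) = 𝒜.qA i :=
      (IsLocalization.liesOver_map_of_isPrime_disjoint (Submonoid.powers (algebraMap (𝒟.B i) (𝒟.A i) (b i))) (shXA 𝒟 b i) hd).over.symm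
    refine ⟨_, inferInstance, eq_of_comap (Submonoid.powers g) ?_, hcom⟩
    rw [Ideal.comap_comap, ← IsScalarTower.algebraMap_eq, IsScalarTower.algebraMap_eq R (𝒟.A i) (shXA 𝒟 b i),
      ← Ideal.comap_comap, hcom, IsScalarTower.algebraMap_eq R (𝒟.B i) (𝒟.A i), ← Ideal.comap_comap]
    exact ((congrArg (Ideal.comap _) ((𝒜.qA i).over_def (𝒜.qB i)).symm).trans ((𝒜.qB i).over_def p).symm).trans (p'.over_def p)
  have hex : ∀ i, ∃ P : Ideal (shA 𝒟 b i), P.IsPrime ∧ P.comap (algebraMap R' (shA 𝒟 b i)) = p' ∧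
      ∀ h : i < 𝒟.n, P.comap (algebraMap (𝒟.A (⟨i, h⟩ : Fin 𝒟.n)) (shA 𝒟 b (⟨i, h⟩ : Fin 𝒟.n))) = 𝒜.qA i := by
    intro i
    by_cases hi : i < 𝒟.n
    · obtain ⟨P₀, hP₀, h1, h2⟩ := hprime i hi
      let e : shXA 𝒟 b i ≃ₐ[R'] shA 𝒟 b i :=
        AlgEquiv.ofBijective (pkL (R' := R') (X := shXA 𝒟 b i) (shXA 𝒟 b (𝒟.n - 1)) hi) (pkL_bijective hi)
      refine ⟨P₀.comap e.symm.toAlgHom.toRingHom, inferInstance, ?_, fun h => ?_⟩
      · rw [Ideal.comap_comap]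
        exact (congrArg (fun r => P₀.comap r) (RingHom.ext fun x => e.symm.commutes x)).trans h1
      · rw [Ideal.comap_comap]
        exact (congrArg (fun r => P₀.comap r) (RingHom.ext fun x => e.symm_apply_apply _)).trans h2
    · obtain ⟨P₀, hP₀, h1, -⟩ := hprime (𝒟.n - 1) (Nat.sub_lt 𝒟.pos Nat.one_pos)
      let e : shXA 𝒟 b (𝒟.n - 1) ≃ₐ[R'] shA 𝒟 b i :=
        AlgEquiv.ofBijective (pkR (R' := R') (shXA 𝒟 b i) (T := shXA 𝒟 b (𝒟.n - 1)) hi) (pkR_bijective hi)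
      refine ⟨P₀.comap e.symm.toAlgHom.toRingHom, inferInstance, ?_, fun h => absurd h hi⟩
      rw [Ideal.comap_comap]
      exact (congrArg (fun r => P₀.comap r) (RingHom.ext fun x => e.symm.commutes x)).trans h1
  choose P hP hPp hPA using hex
  let Q : ∀ i, Ideal (shB 𝒟 b i) := fun i => (P i).comap (algebraMap (shB 𝒟 b i) (shA 𝒟 b i))
  haveI hQ : ∀ i, (Q i).IsPrime := fun i => haveI := hP i; inferInstance
  haveI hQp : ∀ i, (Q i).LiesOver p' := fun i => ⟨by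
    rw [Ideal.under_def, Ideal.comap_comap, ← IsScalarTower.algebraMap_eq]
    exact (hPp i).symm⟩
  haveI hPQ : ∀ i, (P i).LiesOver (Q i) := fun i => ⟨rfl⟩
  have hQB : ∀ i : Fin 𝒟.n, (Q i).comap (algebraMap (𝒟.B i) (shB 𝒟 b i)) = 𝒜.qB i := fun i => by
    rw [Ideal.comap_comap, ← IsScalarTower.algebraMap_eq, IsScalarTower.algebraMap_eq (𝒟.B i) (𝒟.A i) (shA 𝒟 b i),
      ← Ideal.comap_comap, hPA i i.2]
    exact ((𝒜.qA i).over_def (𝒜.qB i)).symm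
  haveI hQqB : ∀ i : Fin 𝒟.n, (Q i).LiesOver (𝒜.qB i) := fun i => ⟨(hQB i).symm⟩
  -- the smooth algebras
  have hpB : ∀ i : Fin 𝒟.n, (p'.map (algebraMap R' (shB 𝒟 b i))).IsPrime ∧
      (p'.map (algebraMap R' (shB 𝒟 b i))).comap (algebraMap (𝒟.B i) (shB 𝒟 b i)) = p.map (algebraMap R (𝒟.B i)) := fun i =>
    prime_map_away (b i) p (𝒟.hp i) fun hm => hbq i i.2 (DevLib.map_le_of_liesOver p (𝒜.qB i) hm)
  haveI hp : ∀ i, (p'.map (algebraMap R' (shB 𝒟 b i))).IsPrime := fun i => by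
    by_cases hi : i < 𝒟.n
    · exact (hpB ⟨i, hi⟩).1
    · have hl : 𝒟.n - 1 < 𝒟.n := Nat.sub_lt 𝒟.pos Nat.one_pos
      haveI : (p'.map (algebraMap R' (shXB 𝒟 b (𝒟.n - 1)))).IsPrime := (prime_map_away (b (𝒟.n - 1)) p (𝒟.hp _)
        fun hm => hbq _ hl (DevLib.map_le_of_liesOver p (𝒜.qB _) hm)).1
      let e : shXB 𝒟 b (𝒟.n - 1) ≃ₐ[R'] shB 𝒟 b i :=
        AlgEquiv.ofBijective (pkR (R' := R') (shXB 𝒟 b i) (T := shXB 𝒟 b (𝒟.n - 1)) hi) (pkR_bijective hi)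
      rw [show algebraMap R' (shB 𝒟 b i) = e.toRingEquiv.toRingHom.comp (algebraMap R' (shXB 𝒟 b (𝒟.n - 1))) from
        RingHom.ext fun x => (e.commutes x).symm, ← Ideal.map_map]
      exact Ideal.map_isPrime_of_equiv e.toRingEquiv
  have hrel : ∀ i : Fin 𝒟.n, FlatCA.SmoothRelDim (𝒜.d i) R' (shB 𝒟 b i) := fun i =>
    DevLib.smoothRelDim_away (𝒜.relDim i i.2) g (b i) R' (shB 𝒟 b i)
  have hirr : ∀ i : Fin 𝒟.n, FlatCA.GeomIrredFibres R' (shB 𝒟 b i) := fun i =>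
    geomIrred_away (𝒟.geomIrred i i.2) (himg i) (hfg i)
  -- the maps from free modules
  have hstep : ∀ i : Fin 𝒟.n, ∃ α' : (Fin (𝒟.r i) → shB 𝒟 b i) →ₗ[shB 𝒟 b i] shM 𝒟 b i,
      LinearMap.range α' = Submodule.span (shB 𝒟 b i) (gM i '' (LinearMap.range (𝒟.α i) : Set (𝒟.M i))) ∧
      Function.Bijective (α'.baseChange (p'.map (algebraMap R' (shB 𝒟 b i))).ResidueField) := fun i => by
    haveI := 𝒟.hp i
    obtain ⟨α', h1, h2⟩ := exists_alpha_of_comap _ _ (hpB i).2 (𝒟.α i) (𝒟.fibreIso i i.2) _ (hgB i)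
    exact ⟨α', h1.trans (congrArg (Submodule.span (shB 𝒟 b i)) (Set.image_congr fun m _ => LinearMap.restrictScalars_apply _ _ m)), h2⟩
  choose αf hrange hfib using hstep
  let α' : ∀ i, (Fin (𝒟.r i) → shB 𝒟 b i) →ₗ[shB 𝒟 b i] shM 𝒟 b i := fun i =>
    if hi : i < 𝒟.n then αf ⟨i, hi⟩ else 0
  have hα' : ∀ i : Fin 𝒟.n, α' i = αf i := fun i => dif_pos i.2
  have hcoker : ∀ i, i + 1 < 𝒟.n →
      Nonempty ((shM 𝒟 b i ⧸ LinearMap.range (α' i)) ≃ₗ[shB 𝒟 b i] shM 𝒟 b (i + 1)) := by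
    intro i hi
    let j : Fin 𝒟.n := ⟨i, by omega⟩
    letI : Algebra (𝒟.B i) (shB 𝒟 b i) := aB j
    haveI : IsLocalization.Away (b i) (shB 𝒟 b i) := lB j
    haveI : IsScalarTower (𝒟.B i) (shB 𝒟 b i) (shK 𝒟 b (i + 1)) := .of_algebraMap_eq fun x => (hφ i hi j.2 x).symm
    haveI : IsScalarTower (𝒟.B i) (shB 𝒟 b i) (shM 𝒟 b (i + 1)) := inferInstance
    haveI : IsScalarTower (𝒟.B i) (𝒟.A (i + 1)) (shM 𝒟 b (i + 1)) := inferInstance
    haveI : IsLocalizedModule (Submonoid.powers (algebraMap (𝒟.B i) (𝒟.A (i + 1)) (b i))) (gM (i + 1)) := by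
      rw [hbb i hi]
      exact hgM ⟨i + 1, hi⟩
    have hnext : IsBaseChange (shB 𝒟 b i) ((gM (i + 1)).restrictScalars (𝒟.B i)) :=
      (isLocalizedModule_iff_isBaseChange (Submonoid.powers (b i)) (shB 𝒟 b i) _).1
        (IsLocalizedModule.restrictScalars_powers (b i) (gM (i + 1)))
    haveI : IsScalarTower (𝒟.B i) (shB 𝒟 b i) (shM 𝒟 b i) := tBBM j
    obtain ⟨g', hg'⟩ := DevLib.exists_baseChange_coker (𝒟.α i) (α' i) ((gM i).restrictScalars (𝒟.B i)) (hgB j) (by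
      rw [show α' i = αf j from hα' j]
      exact (hrange j).trans (congrArg (Submodule.span (shB 𝒟 b i)) (Set.image_congr fun m _ => (LinearMap.restrictScalars_apply _ _ m).symm)))
    exact ⟨hg'.equiv.symm ≪≫ₗ
      (hnext.comp_equiv (𝒟.isoCoker i hi) ((gM (i + 1)).restrictScalars (𝒟.B i))).equiv⟩
  let coker' := fun i hi => (hcoker i hi).some
  let 𝒟' : FlatCA.CompleteDevissage R' S' N' p' :=
    { n := 𝒟.n
      pos := 𝒟.pos
      A := shA 𝒟 b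
      B := shB 𝒟 b
      M := shM 𝒟 b
      r := 𝒟.r
      α := α'
      surjSA := surjective_away (A := S) (C := 𝒟.A 0) hX 𝒟.surjSA
      fpSA := haveI := 𝒟.fpSA; finitePresentation_away (A := S) (C := 𝒟.A 0) hX
      surjBA' := fun i hi => by
        let j : Fin 𝒟.n := ⟨i, Nat.lt_of_succ_lt hi⟩
        letI : Algebra (𝒟.A (j + 1)) (shA 𝒟 b (j + 1)) := aA ⟨i + 1, hi⟩
        haveI : IsScalarTower (𝒟.B j) (𝒟.A (j + 1)) (shA 𝒟 b (j + 1)) := t5' j hi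
        haveI : IsLocalization.Away (algebraMap (𝒟.B j) (𝒟.A (j + 1)) (b j)) (shA 𝒟 b (j + 1)) := by
          rw [hbb i hi]
          exact lA ⟨i + 1, hi⟩
        exact surjective_away (A := 𝒟.B j) (C := 𝒟.A (j + 1)) (A' := shB 𝒟 b j) (C' := shA 𝒟 b (j + 1)) (b j) (𝒟.surjBA' i hi)
      fpBA' := fun i hi => by
        let j : Fin 𝒟.n := ⟨i, Nat.lt_of_succ_lt hi⟩
        letI : Algebra (𝒟.A (j + 1)) (shA 𝒟 b (j + 1)) := aA ⟨i + 1, hi⟩
        haveI : IsScalarTower (𝒟.B j) (𝒟.A (j + 1)) (shA 𝒟 b (j + 1)) := t5' j hi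
        haveI : IsLocalization.Away (algebraMap (𝒟.B j) (𝒟.A (j + 1)) (b j)) (shA 𝒟 b (j + 1)) := by
          rw [hbb i hi]
          exact lA ⟨i + 1, hi⟩
        haveI : Algebra.FinitePresentation (𝒟.B j) (𝒟.A (j + 1)) := 𝒟.fpBA' i hi
        exact finitePresentation_away (A := 𝒟.B j) (C := 𝒟.A (j + 1)) (A' := shB 𝒟 b j) (C' := shA 𝒟 b (j + 1)) (b j)
      finiteBA := fun i hi => by
        let j : Fin 𝒟.n := ⟨i, hi⟩
        haveI : Module.Finite (𝒟.B j) (𝒟.A j) := 𝒟.finiteBA i hi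
        exact finite_away (A := 𝒟.B j) (C := 𝒟.A j) (A' := shB 𝒟 b j) (C' := shA 𝒟 b j) (b j)
      smooth := fun i hi => DevissLib.smooth_of_smoothRelDim (hrel ⟨i, hi⟩)
      geomIrred := fun i hi => hirr ⟨i, hi⟩
      finiteM := fun i hi => by
        haveI := 𝒟.finiteM i hi
        haveI : Module.Finite (shA 𝒟 b i) (shK 𝒟 b i) :=
          Module.Finite.of_surjective (Algebra.linearMap (shA 𝒟 b i) (shK 𝒟 b i)) fun x => ⟨(x, 0), rfl⟩
        exact Module.Finite.trans (shK 𝒟 b i) (shM 𝒟 b i)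
      isoN := eN
      isoCoker := coker'
      fibreIso := fun i hi => by
        rw [show α' i = αf ⟨i, hi⟩ from dif_pos hi]
        exact hfib ⟨i, hi⟩
      cokerLast := by
        have hi : 𝒟.n - 1 < 𝒟.n := Nat.sub_lt 𝒟.pos Nat.one_pos
        rw [show α' (𝒟.n - 1) = αf ⟨𝒟.n - 1, hi⟩ from dif_pos hi]
        rw [← LinearMap.range_eq_top, hrange ⟨𝒟.n - 1, hi⟩, LinearMap.range_eq_top.2 𝒟.cokerLast]
        have hgb := hgB ⟨𝒟.n - 1, hi⟩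
        refine eq_top_iff.2 ?_
        rintro x -
        induction x using hgb.inductionOn with
        | zero => exact zero_mem _
        | tmul m => exact Submodule.subset_span ⟨m, Submodule.mem_top, rfl⟩
        | smul r x hx => exact Submodule.smul_mem _ _ hx
        | add x y hx hy => exact Submodule.add_mem _ hx hy }
  let 𝒜' : FlatCA.CompleteDevissageAt R' S' N' p' q' 𝒟' :=
    { qB := Q
      qA := P
      hqB := hQ
      hqA := hP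
      overB := hQp
      overA := hPQ
      pureTrans := fun i hi => by
        let j : Fin 𝒟.n := ⟨i, hi⟩
        haveI : p.LiesOver p := ⟨(Ideal.comap_id _).symm⟩
        haveI : (𝒜.qB j).LiesOver (𝒜.qB j) := ⟨(Ideal.comap_id _).symm⟩
        exact DevissLib.purelyTranscendental_of_bijective (p := p) (p' := p') (P := 𝒜.qB j) (y := Q j)
          (DevissLib.residue_bijective_of_frac p p' ((DevLib.fracMod_refl p).away g hg))
          (DevissLib.residue_bijective_of_frac (𝒜.qB j) (Q j) ((DevLib.fracMod_refl (𝒜.qB j)).away (b j) (hbq i hi)))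
          (𝒜.pureTrans i hi)
      uniq := fun i hi Q₁ _ hQ₁ => by
        let j : Fin 𝒟.n := ⟨i, hi⟩
        exact uniq_away (A := 𝒟.B j) (C := 𝒟.A j) (A' := shB 𝒟 b j) (C' := shA 𝒟 b j) (b j) (𝒜.uniq i hi)
          (hQB j) (hPA i hi) Q₁ hQ₁
      q0 := by
        refine comap_away (A := S) (C := 𝒟.A 0) (C' := shA 𝒟 b 0) hX 𝒜.q0 ?_ (hPA 0 𝒟.pos)
        exact (q'.over_def q).symm
      qStep := fun i hi => by
        have hi' : i + 1 < 𝒟.n := hi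
        let j : Fin 𝒟.n := ⟨i, Nat.lt_of_succ_lt hi'⟩
        letI : Algebra (𝒟.A (j + 1)) (shA 𝒟 b (j + 1)) := aA ⟨i + 1, hi'⟩
        haveI : IsScalarTower (𝒟.B j) (𝒟.A (j + 1)) (shA 𝒟 b (j + 1)) := t5' j hi'
        exact comap_away (A := 𝒟.B j) (C := 𝒟.A (j + 1)) (A' := shB 𝒟 b j) (C' := shA 𝒟 b (j + 1)) (b j)
          (𝒜.qStep i hi') (hQB j) (hPA (i + 1) hi')
      d := 𝒜.d
      relDim := fun i hi => hrel ⟨i, hi⟩
      locDim := fun i hi => by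
        let j : Fin 𝒟.n := ⟨i, hi⟩
        haveI : Module.Finite (𝒟.B j) (𝒟.A j) := 𝒟.finiteBA i hi
        haveI : Module.Finite (𝒟.A j) (𝒟.M j) := 𝒟.finiteM i hi
        haveI : Module.Finite (𝒟.B j) (𝒟.M j) := Module.Finite.trans (𝒟.A j) (𝒟.M j)
        exact locDim_away p (𝒟.B j) (𝒟.M j) (shB 𝒟 b j) p' (shM 𝒟 b j) (Submonoid.powers g) (b j) _ (hgB j)
          (𝒜.qB j) (Q j) (𝒜.locDim i hi) }
  refine ⟨aRS, tRS, mRN, tN, hp', hq', 𝒟', 𝒜', fun i => algebraMap (𝒟.B i) (𝒟.A i) (b i), fun i => b i,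
    aA, fun i => inferInstanceAs (Algebra R (shA 𝒟 b i)), fun i => inferInstanceAs (IsScalarTower R R' (shA 𝒟 b i)), t2,
    aB, fun i => inferInstanceAs (Algebra R (shB 𝒟 b i)), fun i => inferInstanceAs (IsScalarTower R R' (shB 𝒟 b i)), t4,
    bA, t5, t6, bA', t7, sA, t8, fun i => inferInstanceAs (Module (𝒟.A i) (shM 𝒟 b i)), t9, fun i => gM i,
    rfl, rfl, rfl, tS0, fun x => ?_, t5', fun i => rfl, fun i => ⟨haq i i.2, hbq i i.2, lA i, lB i, hgM i, ⟨(hPA i i.2).symm⟩, ⟨(hQB i).symm⟩, ?_⟩⟩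
  · show (IsLocalizedModule.linearEquiv (Submonoid.powers hX) (LocalizedModule.mkLinearMap (Submonoid.powers hX) N) ψN)
      (LocalizedModule.mkLinearMap (Submonoid.powers hX) N x) = _
    rw [IsLocalizedModule.linearEquiv_apply]
    rfl
  · show LinearMap.range (α' i) = _
    rw [hα' i]
    exact hrange i

end Groth.Agent.DevBCLib
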