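import Groth.Agent.DevBCLib.Fiber
import Groth.Agent.DevLib.Irred
import Groth.Agent.DevissLib.Fibre
import Groth.Agent.DevissLib.OpenIrred
import Groth.Agent.DevissLib.ExistAux

/-!
# The conditions of a dévissage step after a change of the base
-/

set_option autoImplicit false
set_option linter.style.haveILetI false
set_option backward.isDefEq.respectTransparency false
set_option backward.isDefEq.respectTransparency.types false
set_option maxHeartbeats 1000000

universe u

open TensorProduct CategoryTheory AlgebraicGeometry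

noncomputable section

namespace Groth.Agent.DevBCLib

attribute [local instance] Algebra.TensorProduct.rightAlgebra

section

variable {R R' D D' : Type u} [CommRing R] [CommRing R'] [CommRing D] [CommRing D'] [Algebra R R'] [Algebra R D]
  [Algebra R' D'] [Algebra R D'] [Algebra D D'] [IsScalarTower R R' D'] [IsScalarTower R D D'] [Algebra.IsPushout R R' D D']

theorem geomIrred_bc (h : FlatCA.GeomIrredFibres R D) : FlatCA.GeomIrredFibres R' D' := by
  refine DevLib.geomIrredFibres_iff_tensor.2 fun K _ _ => ?_
  letI : Algebra R K := ((algebraMap R' K).comp (algebraMap R R')).toAlgebra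
  haveI : IsScalarTower R R' K := .of_algebraMap_eq fun _ => rfl
  haveI : Algebra.IsPushout R D R' D' := Algebra.IsPushout.symm inferInstance
  exact (PrimeSpectrum.homeomorphOfRingEquiv
    (((Algebra.TensorProduct.comm R' K D').toRingEquiv.trans
      (Algebra.IsPushout.cancelBaseChangeAlg R D R' D' K).toRingEquiv).trans
        (Algebra.TensorProduct.comm R D K).toRingEquiv)).irreducibleSpace_iff.2 (DevLib.geomIrredFibres_iff_tensor.1 h K)

theorem smoothRelDim_bc {n : ℕ} (h : FlatCA.SmoothRelDim n R D) : FlatCA.SmoothRelDim n R' D' := by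
  haveI := AlgebraicGeometry.smoothOfRelativeDimension_isStableUnderBaseChange (n := n)
  exact MorphismProperty.of_isPullback
    (AlgebraicGeometry.isPullback_SpecMap_of_isPushout _ _ _ _
      (CommRingCat.isPushout_iff_isPushout.mpr (inferInstance : Algebra.IsPushout R R' D D'))).flip h

end

section

variable {R R' A A' B B' : Type u} [CommRing R] [CommRing R'] [CommRing A] [CommRing A'] [CommRing B] [CommRing B']
  [Algebra R R'] [Algebra R A] [Algebra R' A'] [Algebra R A'] [Algebra A A'] [IsScalarTower R R' A'] [IsScalarTower R A A']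
  [Algebra.IsPushout R R' A A'] [Algebra R B] [Algebra R' B'] [Algebra R B'] [Algebra B B'] [IsScalarTower R R' B']
  [IsScalarTower R B B'] [Algebra.IsPushout R R' B B'] [Algebra A B] [IsScalarTower R A B] [Algebra A' B']
  [IsScalarTower R' A' B'] [Algebra A B'] [IsScalarTower A A' B'] [IsScalarTower A B B']

include R R' in
/-- A map over the base becomes a pushout square after a change of the base. -/
theorem isPushout_bc : Algebra.IsPushout A A' B B' := by
  haveI : IsScalarTower R A B' := IsScalarTower.of_algebraMap_eq (R := R) (S := A) (A := B') fun x => by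
    rw [IsScalarTower.algebraMap_apply A B B', ← IsScalarTower.algebraMap_apply R A B, ← IsScalarTower.algebraMap_apply R B B']
  haveI : IsScalarTower R A' B' := IsScalarTower.of_algebraMap_eq (R := R) (S := A') (A := B') fun x => by
    rw [IsScalarTower.algebraMap_apply R A A', ← IsScalarTower.algebraMap_apply A A' B',
      ← IsScalarTower.algebraMap_apply R A B']
  haveI : Algebra.IsPushout R A R' A' := Algebra.IsPushout.symm inferInstance
  haveI : Algebra.IsPushout R B R' B' := Algebra.IsPushout.symm inferInstance
  exact ((Algebra.IsPushout.comp_iff (R := R) (S := A) (R' := R') (S' := A') (T := B) (T' := B')).1 inferInstance).symm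

include R R' in
theorem surjective_bc (h : Function.Surjective (algebraMap A B)) : Function.Surjective (algebraMap A' B') := by
  haveI := isPushout_bc (R := R) (R' := R') (A := A) (A' := A') (B := B) (B' := B')
  intro x
  obtain ⟨t, rfl⟩ := (Algebra.IsPushout.equiv A A' B B').surjective x
  induction t using TensorProduct.induction_on with
  | zero => exact ⟨0, by simp⟩
  | add a b ha hb =>
    obtain ⟨a', ha'⟩ := ha
    obtain ⟨b', hb'⟩ := hb
    exact ⟨a' + b', by rw [map_add, ha', hb', map_add]⟩
  | tmul a b =>
    obtain ⟨c, rfl⟩ := h b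
    refine ⟨a * algebraMap A A' c, ?_⟩
    rw [Algebra.IsPushout.equiv_tmul, map_mul, ← IsScalarTower.algebraMap_apply A A' B',
      ← IsScalarTower.algebraMap_apply A B B']

include R R' in
theorem finitePresentation_bc [Algebra.FinitePresentation A B] : Algebra.FinitePresentation A' B' :=
  haveI := isPushout_bc (R := R) (R' := R') (A := A) (A' := A') (B := B) (B' := B')
  Algebra.FinitePresentation.equiv (Algebra.IsPushout.equiv A A' B B')

include R R' in
theorem finite_bc [Module.Finite A B] : Module.Finite A' B' :=
  haveI := isPushout_bc (R := R) (R' := R') (A := A) (A' := A') (B := B) (B' := B')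
  Module.Finite.equiv (Algebra.IsPushout.equiv A A' B B').toLinearEquiv

end

/-- A point over two given points is unique when the residue field of the base does not grow. -/
theorem eq_of_over {R R' S S' : Type u} [CommRing R] [CommRing R'] [CommRing S] [CommRing S'] [Algebra R R'] [Algebra R S]
    [Algebra R' S'] [Algebra R S'] [Algebra S S'] [IsScalarTower R R' S'] [IsScalarTower R S S'] [Algebra.IsPushout R R' S S']
    (p : Ideal R) [p.IsPrime] (p' : Ideal R') [p'.IsPrime] [p'.LiesOver p] (hκ : Function.Bijective (kappaMap p p'))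
    (q : Ideal S) (q₁ q₂ : Ideal S') [q₁.IsPrime] [q₂.IsPrime] (h1 : q₁.LiesOver q) (h1' : q₁.LiesOver p')
    (h2 : q₂.LiesOver q) (h2' : q₂.LiesOver p') : q₁ = q₂ := by
  obtain ⟨a1, b1⟩ := FibAssLib.fiberIdeal_spec p' q₁
  obtain ⟨a2, b2⟩ := FibAssLib.fiberIdeal_spec p' q₂
  haveI := a1
  haveI := a2
  let φ := (fibBC p p' S S').toRingHom
  have key : ∀ (Q : Ideal (p'.Fiber S')) [Q.IsPrime] (q₀ : Ideal S'), Q.comap (CAlgFib.ι p') = q₀ → q₀.LiesOver q →
      Q.comap φ = FlatCA.fiberIdeal p q := fun Q _ q₀ hQ hq₀ => by
    refine (FibAssLib.eq_fiberIdeal_of_comap p (P := Q.comap φ) ?_).symm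
    rw [Ideal.comap_comap, show φ.comp (CAlgFib.ι p) = (CAlgFib.ι p').comp (algebraMap S S') from
      RingHom.ext fun x => fibBC_ι p p' S S' x, ← Ideal.comap_comap, hQ]
    exact hq₀.over.symm
  have hbij := fibBC_bijective p p' S S' hκ
  have he : FlatCA.fiberIdeal p' q₁ = FlatCA.fiberIdeal p' q₂ := by
    have h := (key _ q₁ b1 h1).trans (key _ q₂ b2 h2).symm
    have h' := congrArg (Ideal.map φ) h
    rwa [Ideal.map_comap_of_surjective φ hbij.2, Ideal.map_comap_of_surjective φ hbij.2] at h'
  rw [← b1, ← b2, he]

/-- Residue fields do not grow at a point of the base change. -/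
theorem residue_bijective_bc {R R' D D' : Type u} [CommRing R] [CommRing R'] [CommRing D] [CommRing D'] [Algebra R R'] [Algebra R D]
    [Algebra R' D'] [Algebra R D'] [Algebra D D'] [IsScalarTower R R' D'] [IsScalarTower R D D'] [Algebra.IsPushout R R' D D']
    (p : Ideal R) [p.IsPrime] (p' : Ideal R') [p'.IsPrime] [p'.LiesOver p]
    (hκ : Function.Bijective (Ideal.ResidueField.mapₐ p p' (Algebra.ofId R R') (p'.over_def p)))
    (y : Ideal D) [y.IsPrime] [y.LiesOver p] (y' : Ideal D') [y'.IsPrime] [y'.LiesOver y] [y'.LiesOver p'] :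
    Function.Bijective (Ideal.ResidueField.mapₐ y y' (Algebra.ofId D D') (y'.over_def y)) := by
  let e := Algebra.IsPushout.equiv R R' D D'
  let Y : Ideal (R' ⊗[R] D) := y'.comap e.toRingEquiv.toRingHom
  haveI : Y.LiesOver p' := ⟨by
    rw [Ideal.under_def, Ideal.comap_comap, show e.toRingEquiv.toRingHom.comp (algebraMap R' (R' ⊗[R] D)) = algebraMap R' D' from
      e.toAlgHom.comp_algebraMap]
    exact y'.over_def p'⟩
  refine DevissLib.residue_bijective_of_frac y y' fun z => ?_
  obtain ⟨c, a, hc, h⟩ := (DevissLib.fracMod_of_bijective p p' hκ).tensor Y y (e.symm z)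
  refine ⟨c, a, hc, ?_⟩
  have h' : e (algebraMap D (R' ⊗[R] D) c * e.symm z - algebraMap D (R' ⊗[R] D) a) ∈ y' := h
  have he : ∀ d : D, e (algebraMap D (R' ⊗[R] D) d) = algebraMap D D' d := fun d => by
    show e ((1 : R') ⊗ₜ[R] d) = _
    rw [Algebra.IsPushout.equiv_tmul, map_one, one_mul]
  rwa [map_sub, map_mul, AlgEquiv.apply_symm_apply, he, he] at h'

end Groth.Agent.DevBCLib
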