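import Groth.Agent.DevBCLib.Away
import Groth.Agent.DevBCLib.Step
import Groth.Agent.DevLib.Shrink

/-!
# Standard shrinkings of one-step dévissages
-/

set_option autoImplicit false
set_option linter.style.haveILetI false
set_option backward.isDefEq.respectTransparency false
set_option backward.isDefEq.respectTransparency.types false
set_option maxHeartbeats 2000000
set_option synthInstance.maxHeartbeats 200000

universe u

open TensorProduct

noncomputable section

namespace Groth.Agent.DevBCLib

attribute [local instance] Algebra.TensorProduct.rightAlgebra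

/-- Comparison of maps out of a localisation. -/
theorem tower_away {A A' B B' : Type u} [CommRing A] [CommRing A'] [CommRing B] [CommRing B'] [Algebra A A'] [Algebra A B]
    [Algebra A' B] [Algebra B B'] [Algebra A' B'] [IsScalarTower A A' B] [Algebra A B'] [IsScalarTower A A' B'] [IsScalarTower A B B']
    (M : Submonoid A) [IsLocalization M A'] : IsScalarTower A' B B' :=
  IsScalarTower.of_algebraMap_eq' (IsLocalization.ringHom_ext M (RingHom.ext fun x => by
    show algebraMap A' B' (algebraMap A A' x) = algebraMap B B' (algebraMap A' B (algebraMap A A' x))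
    rw [← IsScalarTower.algebraMap_apply A A' B', ← IsScalarTower.algebraMap_apply A A' B,
      ← IsScalarTower.algebraMap_apply A B B']))

variable (R S : Type u) [CommRing R] [CommRing S] [Algebra R S] [Algebra.FiniteType R S]
  (N : Type u) [AddCommGroup N] [Module S N] [Module R N] [IsScalarTower R S N] [Module.Finite S N]
  (p : Ideal R) [p.IsPrime] (q : Ideal S) [q.IsPrime] [q.LiesOver p]
  (C D G : Type u) [CommRing C] [CommRing D] [Algebra S C] [Algebra R C] [IsScalarTower R S C]
  [Algebra R D] [Algebra D C] [IsScalarTower R D C] [AddCommGroup G] [Module C G] [Module S G]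
  [IsScalarTower S C G] (n : ℕ)
  (h : FlatCA.IsOneStepDevissage R S N p C D G n)
  (z : Ideal C) [z.IsPrime] (y : Ideal D) [y.IsPrime] [z.LiesOver q] [z.LiesOver y] [y.LiesOver p]

omit [Algebra.FiniteType R S] [AddCommGroup N] [Module S N] [Module R N] [IsScalarTower R S N] [Module.Finite S N]
  [q.LiesOver p] [AddCommGroup G] [Module C G] [Module S G] [IsScalarTower S C G] [IsScalarTower R S C] [IsScalarTower R D C] in
theorem notMem_of_eq {s : S} {d : D} (hs : algebraMap S C s = algebraMap D C d) (hd : d ∉ y) :
    s ∉ q ∧ algebraMap S C s ∉ z := by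
  have hz : algebraMap S C s ∉ z := fun hm => hd ((Ideal.mem_of_liesOver z y d).2 (hs ▸ hm))
  exact ⟨fun hm => hz ((Ideal.mem_of_liesOver z q s).1 hm), hz⟩

include h in
/-- A step shrinks to a standard open around the point, given the piece of the smooth algebra. -/
theorem exists_shrink
    (h1 : ∃ (ξ : PrimeSpectrum (p.Fiber S)) (hξ : ξ ∈ Module.support (p.Fiber S) (FlatCA.fiberMod p S N)),
      ξ.asIdeal = FlatCA.fiberIdeal p q ∧
      FlatMor.localDim (Module.support (p.Fiber S) (FlatCA.fiberMod p S N)) ⟨ξ, hξ⟩ = n)
    (h3 : ∀ (z₁ : Ideal C) [z₁.IsPrime], z₁.LiesOver y → z₁ = z)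
    (h4 : FlatCA.PurelyTranscendental p y)
    (w : D) (hw : w ∉ y) (s₀ : S) (hs₀ : algebraMap S C s₀ = algebraMap D C w) :
    ∃ (g : R) (hX : S) (hZ : C), g ∉ p ∧ hX ∉ q ∧ hZ ∉ z ∧ s₀ ∣ hX ∧
      ∃ (_ : Algebra (Localization.Away g) (Localization.Away hX)) (_ : IsScalarTower R (Localization.Away g) (Localization.Away hX))
        (_ : Algebra (Localization.Away g) (Localization.Away hZ)) (_ : IsScalarTower R (Localization.Away g) (Localization.Away hZ))
        (_ : Algebra (Localization.Away g) (Localization.Away (w * algebraMap R D g))) (_ : IsScalarTower R (Localization.Away g) (Localization.Away (w * algebraMap R D g)))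
        (_ : Algebra (Localization.Away hX) (Localization.Away hZ)) (_ : IsScalarTower S (Localization.Away hX) (Localization.Away hZ))
        (_ : IsScalarTower (Localization.Away g) (Localization.Away hX) (Localization.Away hZ))
        (_ : Algebra (Localization.Away (w * algebraMap R D g)) (Localization.Away hZ)) (_ : IsScalarTower D (Localization.Away (w * algebraMap R D g)) (Localization.Away hZ))
        (_ : IsScalarTower (Localization.Away g) (Localization.Away (w * algebraMap R D g)) (Localization.Away hZ))
        (_ : Module (Localization.Away g) (LocalizedModule (Submonoid.powers hX) N)) (_ : IsScalarTower (Localization.Away g) (Localization.Away hX) (LocalizedModule (Submonoid.powers hX) N))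
        (_ : Module (Localization.Away hX) (LocalizedModule (Submonoid.powers hZ) G)) (_ : IsScalarTower (Localization.Away hX) (Localization.Away hZ) (LocalizedModule (Submonoid.powers hZ) G))
        (_ : (Ideal.map (algebraMap R (Localization.Away g)) p).IsPrime) (_ : (Ideal.map (algebraMap D (Localization.Away (w * algebraMap R D g))) y).IsPrime) (_ : (Ideal.map (algebraMap D (Localization.Away (w * algebraMap R D g))) y).LiesOver (Ideal.map (algebraMap R (Localization.Away g)) p)),
        FlatCA.IsOneStepDevissage (Localization.Away g) (Localization.Away hX) (LocalizedModule (Submonoid.powers hX) N) (Ideal.map (algebraMap R (Localization.Away g)) p) (Localization.Away hZ) (Localization.Away (w * algebraMap R D g)) (LocalizedModule (Submonoid.powers hZ) G) n ∧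
        (∃ (ξ : PrimeSpectrum ((Ideal.map (algebraMap R (Localization.Away g)) p).Fiber (Localization.Away hX)))
            (hξ : ξ ∈ Module.support ((Ideal.map (algebraMap R (Localization.Away g)) p).Fiber (Localization.Away hX)) (FlatCA.fiberMod (Ideal.map (algebraMap R (Localization.Away g)) p) (Localization.Away hX) (LocalizedModule (Submonoid.powers hX) N))),
          ξ.asIdeal = FlatCA.fiberIdeal (Ideal.map (algebraMap R (Localization.Away g)) p) (Ideal.map (algebraMap S (Localization.Away hX)) q) ∧
          FlatMor.localDim (Module.support ((Ideal.map (algebraMap R (Localization.Away g)) p).Fiber (Localization.Away hX)) (FlatCA.fiberMod (Ideal.map (algebraMap R (Localization.Away g)) p) (Localization.Away hX) (LocalizedModule (Submonoid.powers hX) N))) ⟨ξ, hξ⟩ = n) ∧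
        (Ideal.map (algebraMap C (Localization.Away hZ)) z).LiesOver (Ideal.map (algebraMap S (Localization.Away hX)) q) ∧ (Ideal.map (algebraMap C (Localization.Away hZ)) z).LiesOver (Ideal.map (algebraMap D (Localization.Away (w * algebraMap R D g))) y) ∧
        (∀ (z₂ : Ideal (Localization.Away hZ)) [z₂.IsPrime], z₂.LiesOver (Ideal.map (algebraMap D (Localization.Away (w * algebraMap R D g))) y) → z₂ = Ideal.map (algebraMap C (Localization.Away hZ)) z) ∧
        FlatCA.PurelyTranscendental (Ideal.map (algebraMap R (Localization.Away g)) p) (Ideal.map (algebraMap D (Localization.Away (w * algebraMap R D g))) y) := by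
  classical
  obtain ⟨⟨e⟩, hsurj, hfp, hfin, hfinG, hrel, hirr, hdim⟩ := h
  haveI := hfp
  haveI := hfin
  haveI := hfinG
  haveI : Algebra.Smooth R D := DevissLib.smooth_of_smoothRelDim hrel
  obtain ⟨g, hg, himg⟩ := DevLib.exists_basicOpen_subset_image w p y hw
  let hY : D := w * algebraMap R D g
  let hX : S := s₀ * algebraMap R S g
  let hZ : C := algebraMap S C hX
  have hXY : algebraMap S C hX = algebraMap D C hY := by
    simp only [hX, hY, map_mul, hs₀, ← IsScalarTower.algebraMap_apply R S C, ← IsScalarTower.algebraMap_apply R D C]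
  have hYy : hY ∉ y := fun hm => ((inferInstance : y.IsPrime).mem_or_mem hm).elim hw
    fun hm' => hg ((Ideal.mem_of_liesOver y p g).2 hm')
  obtain ⟨hXq, hZz⟩ := notMem_of_eq S q C D z y hXY hYy
  refine ⟨g, hX, hZ, hg, hXq, hZz, dvd_mul_right _ _, ?_⟩
  let R' := Localization.Away g
  let S' := Localization.Away hX
  let C' := Localization.Away hZ
  let D' := Localization.Away hY
  have uS : IsUnit (algebraMap R S' g) := by
    rw [IsScalarTower.algebraMap_apply R S S']
    exact isUnit_of_dvd_unit (map_dvd _ (dvd_mul_left _ s₀)) (IsLocalization.Away.algebraMap_isUnit hX)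
  have uD : IsUnit (algebraMap R D' g) := by
    rw [IsScalarTower.algebraMap_apply R D D']
    exact isUnit_of_dvd_unit (map_dvd _ (dvd_mul_left _ w)) (IsLocalization.Away.algebraMap_isUnit hY)
  have uSC : IsUnit (algebraMap S C' hX) := by
    rw [IsScalarTower.algebraMap_apply S C C']
    exact IsLocalization.Away.algebraMap_isUnit hZ
  have uDC : IsUnit (algebraMap D C' hY) := by
    rw [IsScalarTower.algebraMap_apply D C C', ← hXY]
    exact IsLocalization.Away.algebraMap_isUnit hZ
  letI aRS : Algebra R' S' := (IsLocalization.Away.lift (S := R') g (g := algebraMap R S') uS).toAlgebra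
  haveI tRS : IsScalarTower R R' S' := .of_algebraMap_eq fun x => (IsLocalization.Away.lift_eq g uS x).symm
  letI aRD : Algebra R' D' := (IsLocalization.Away.lift (S := R') g (g := algebraMap R D') uD).toAlgebra
  haveI tRD : IsScalarTower R R' D' := .of_algebraMap_eq fun x => (IsLocalization.Away.lift_eq g uD x).symm
  letI aSC : Algebra S' C' := (IsLocalization.Away.lift (S := S') hX (g := algebraMap S C') uSC).toAlgebra
  haveI tSC : IsScalarTower S S' C' := .of_algebraMap_eq fun x => (IsLocalization.Away.lift_eq hX uSC x).symm
  letI aDC : Algebra D' C' := (IsLocalization.Away.lift (S := D') hY (g := algebraMap D C') uDC).toAlgebra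
  haveI tDC : IsScalarTower D D' C' := .of_algebraMap_eq fun x => (IsLocalization.Away.lift_eq hY uDC x).symm
  letI aRC : Algebra R' C' := ((algebraMap S' C').comp (algebraMap R' S')).toAlgebra
  haveI tRSC : IsScalarTower R' S' C' := .of_algebraMap_eq' rfl
  haveI tRC : IsScalarTower R R' C' := .of_algebraMap_eq fun x => by
    rw [IsScalarTower.algebraMap_apply R' S' C', ← IsScalarTower.algebraMap_apply R R' S',
      IsScalarTower.algebraMap_apply R S S', ← IsScalarTower.algebraMap_apply S S' C',
      IsScalarTower.algebraMap_apply S C C', ← IsScalarTower.algebraMap_apply R S C, ← IsScalarTower.algebraMap_apply R C C']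
  haveI : IsScalarTower R D' C' := .of_algebraMap_eq fun x => by
    rw [IsScalarTower.algebraMap_apply R D D', ← IsScalarTower.algebraMap_apply D D' C',
      IsScalarTower.algebraMap_apply D C C', ← IsScalarTower.algebraMap_apply R D C, ← IsScalarTower.algebraMap_apply R C C']
  haveI tRDC : IsScalarTower R' D' C' := tower_away (A := R) (A' := R') (B := D') (B' := C') (Submonoid.powers g)
  let N' := LocalizedModule (Submonoid.powers hX) N
  let G' := LocalizedModule (Submonoid.powers hZ) G
  letI mRN : Module R' N' := Module.compHom _ (algebraMap R' S')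
  haveI tN : IsScalarTower R' S' N' := IsScalarTower.of_algebraMap_smul fun _ _ => rfl
  letI mSG : Module S' G' := Module.compHom _ (algebraMap S' C')
  haveI tG : IsScalarTower S' C' G' := IsScalarTower.of_algebraMap_smul fun _ _ => rfl
  -- the primes
  let p' := p.map (algebraMap R R')
  have dp : Disjoint (Submonoid.powers g : Set R) p :=
    (Ideal.disjoint_powers_iff_notMem g (inferInstance : p.IsPrime).isRadical).2 hg
  have dy : Disjoint (Submonoid.powers hY : Set D) y :=
    (Ideal.disjoint_powers_iff_notMem hY (inferInstance : y.IsPrime).isRadical).2 hYy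
  have dq : Disjoint (Submonoid.powers hX : Set S) q :=
    (Ideal.disjoint_powers_iff_notMem hX (inferInstance : q.IsPrime).isRadical).2 hXq
  have dz : Disjoint (Submonoid.powers hZ : Set C) z :=
    (Ideal.disjoint_powers_iff_notMem hZ (inferInstance : z.IsPrime).isRadical).2 hZz
  haveI hp' : p'.IsPrime := IsLocalization.isPrime_of_isPrime_disjoint (Submonoid.powers g) _ p inferInstance dp
  haveI : p'.LiesOver p := IsLocalization.liesOver_map_of_isPrime_disjoint (Submonoid.powers g) _ dp
  let y' := y.map (algebraMap D D')
  haveI hy' : y'.IsPrime := IsLocalization.isPrime_of_isPrime_disjoint (Submonoid.powers hY) _ y inferInstance dy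
  haveI : y'.LiesOver y := IsLocalization.liesOver_map_of_isPrime_disjoint (Submonoid.powers hY) _ dy
  let q' := q.map (algebraMap S S')
  haveI : q'.IsPrime := IsLocalization.isPrime_of_isPrime_disjoint (Submonoid.powers hX) _ q inferInstance dq
  haveI : q'.LiesOver q := IsLocalization.liesOver_map_of_isPrime_disjoint (Submonoid.powers hX) _ dq
  let z' := z.map (algebraMap C C')
  haveI : z'.IsPrime := IsLocalization.isPrime_of_isPrime_disjoint (Submonoid.powers hZ) _ z inferInstance dz
  haveI : z'.LiesOver z := IsLocalization.liesOver_map_of_isPrime_disjoint (Submonoid.powers hZ) _ dz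
  haveI oy : y'.LiesOver p' := ⟨by
    have h1 : (y'.comap (algebraMap R' D')).comap (algebraMap R R') = p := by
      rw [Ideal.comap_comap, ← IsScalarTower.algebraMap_eq, IsScalarTower.algebraMap_eq R D D', ← Ideal.comap_comap]
      exact ((y.over_def p).trans (congrArg (Ideal.comap (algebraMap R D)) (y'.over_def y))).symm
    have h2 := congrArg (Ideal.map (algebraMap R R')) h1
    rw [IsLocalization.map_under (Submonoid.powers g) R'] at h2
    exact h2.symm⟩
  haveI : q'.LiesOver p' := ⟨by
    have h1 : (q'.comap (algebraMap R' S')).comap (algebraMap R R') = p := by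
      rw [Ideal.comap_comap, ← IsScalarTower.algebraMap_eq, IsScalarTower.algebraMap_eq R S S', ← Ideal.comap_comap]
      exact ((q.over_def p).trans (congrArg (Ideal.comap (algebraMap R S)) (q'.over_def q))).symm
    have h2 := congrArg (Ideal.map (algebraMap R R')) h1
    rw [IsLocalization.map_under (Submonoid.powers g) R'] at h2
    exact h2.symm⟩
  -- the modules
  let φ : N →ₗ[S] N' := LocalizedModule.mkLinearMap (Submonoid.powers hX) N
  have hφ : IsBaseChange S' φ := (isLocalizedModule_iff_isBaseChange (Submonoid.powers hX) S' φ).1 inferInstance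
  haveI tSG : IsScalarTower S S' G' := IsScalarTower.of_algebraMap_smul fun s m => by
    show algebraMap S' C' (algebraMap S S' s) • m = s • m
    rw [← IsScalarTower.algebraMap_apply, IsScalarTower.algebraMap_apply S C C', algebraMap_smul, algebraMap_smul]
  let ψ : N →ₗ[S] G' := ((LocalizedModule.mkLinearMap (Submonoid.powers hZ) G).restrictScalars S).comp e.toLinearMap
  haveI : IsLocalizedModule (Submonoid.powers hX) ((LocalizedModule.mkLinearMap (Submonoid.powers hZ) G).restrictScalars S) :=
    IsLocalizedModule.restrictScalars_powers hX _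
  haveI : IsLocalizedModule (Submonoid.powers hX) ψ := IsLocalizedModule.of_linearEquiv_right (Submonoid.powers hX) _ e
  let e' : N' ≃ₗ[S'] G' := (IsLocalizedModule.linearEquiv (Submonoid.powers hX) φ ψ).extendScalarsOfIsLocalization
    (Submonoid.powers hX) S'
  obtain ⟨hdim', hloc'⟩ := supportDim_locDim_away p S N S' p' N' (Submonoid.powers g) hX φ hφ q q' h1 hdim
  -- the squares
  haveI : IsLocalization (Algebra.algebraMapSubmonoid C (Submonoid.powers hX)) C' := by
    rw [Algebra.algebraMapSubmonoid_powers]
    exact (inferInstance : IsLocalization.Away hZ C')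
  haveI : Algebra.IsPushout S C S' C' := Algebra.isPushout_of_isLocalization (Submonoid.powers hX) S' C C'
  haveI : Algebra.IsPushout S S' C C' := Algebra.IsPushout.symm inferInstance
  haveI : IsLocalization (Algebra.algebraMapSubmonoid C (Submonoid.powers hY)) C' := by
    rw [Algebra.algebraMapSubmonoid_powers, ← hXY]
    exact (inferInstance : IsLocalization.Away hZ C')
  haveI : Algebra.IsPushout D C D' C' := Algebra.isPushout_of_isLocalization (Submonoid.powers hY) D' C C'
  haveI : Algebra.IsPushout D D' C C' := Algebra.IsPushout.symm inferInstance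
  have hsurj' : Function.Surjective (algebraMap S' C') := fun x => by
    obtain ⟨k, c, hc⟩ := IsLocalization.Away.surj hZ x
    obtain ⟨s, rfl⟩ := hsurj c
    refine ⟨IsLocalization.mk' S' s (⟨hX ^ k, k, rfl⟩ : Submonoid.powers hX), ?_⟩
    refine ((IsLocalization.Away.algebraMap_isUnit hZ).pow k).mul_right_cancel ?_
    rw [hc, show algebraMap C C' hZ = algebraMap S' C' (algebraMap S S' hX) by
        rw [← IsScalarTower.algebraMap_apply S S' C', IsScalarTower.algebraMap_apply S C C'],
      ← map_pow, ← map_mul, ← map_pow, IsLocalization.mk'_spec, ← IsScalarTower.algebraMap_apply S S' C',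
      IsScalarTower.algebraMap_apply S C C']
  have hirr' : FlatCA.GeomIrredFibres R' D' := by
    refine DevLib.geomIrred_of_preIrred ?_ (DevLib.surjective_comap_away himg (dvd_refl g) R' D')
    intro K _ _
    haveI : IsLocalization (Algebra.algebraMapSubmonoid D' (Submonoid.powers g)) D' :=
      IsLocalization.self (by
        rintro _ ⟨_, ⟨k, rfl⟩, rfl⟩
        rw [map_pow]
        exact uD.pow k)
    haveI : Algebra.IsPushout R D' R' D' := Algebra.isPushout_of_isLocalization (Submonoid.powers g) R' D' D'
    haveI : Algebra.IsPushout R R' D' D' := Algebra.IsPushout.symm inferInstance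
    exact DevLib.PreIrred.baseChange (DevLib.PreIrred.localization (DevLib.preIrred_of_geomIrred hirr) hY D') R' D' K
  haveI : p.LiesOver p := ⟨(Ideal.comap_id _).symm⟩
  haveI : y.LiesOver y := ⟨(Ideal.comap_id _).symm⟩
  refine ⟨aRS, tRS, aRC, tRC, aRD, tRD, aSC, tSC, tRSC, aDC, tDC, tRDC, mRN, tN, mSG, tG, hp', hy', oy,
    ⟨⟨e'⟩, hsurj', Algebra.FinitePresentation.equiv (Algebra.IsPushout.equiv S S' C C'),
      Module.Finite.equiv (Algebra.IsPushout.equiv D D' C C').toLinearEquiv, inferInstance,
      DevLib.smoothRelDim_away hrel g hY R' D', hirr', hdim'⟩, hloc', ⟨?_⟩, ⟨?_⟩, fun z₂ _ hz₂ => ?_, ?_⟩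
  · have h1 : (z'.comap (algebraMap S' C')).comap (algebraMap S S') = q := by
      rw [Ideal.comap_comap, ← IsScalarTower.algebraMap_eq, IsScalarTower.algebraMap_eq S C C', ← Ideal.comap_comap]
      exact ((z.over_def q).trans (congrArg (Ideal.comap (algebraMap S C)) (z'.over_def z))).symm
    have h2 := congrArg (Ideal.map (algebraMap S S')) h1
    rw [IsLocalization.map_under (Submonoid.powers hX) S'] at h2
    exact h2.symm
  · have h1 : (z'.comap (algebraMap D' C')).comap (algebraMap D D') = y := by
      rw [Ideal.comap_comap, ← IsScalarTower.algebraMap_eq, IsScalarTower.algebraMap_eq D C C', ← Ideal.comap_comap]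
      exact ((z.over_def y).trans (congrArg (Ideal.comap (algebraMap D C)) (z'.over_def z))).symm
    have h2 := congrArg (Ideal.map (algebraMap D D')) h1
    rw [IsLocalization.map_under (Submonoid.powers hY) D'] at h2
    exact h2.symm
  · have h1 : z₂.comap (algebraMap C C') = z := h3 _ ⟨by
      rw [Ideal.under_def, Ideal.comap_comap, ← IsScalarTower.algebraMap_eq, IsScalarTower.algebraMap_eq D D' C',
        ← Ideal.comap_comap]
      exact (y'.over_def y).trans (congrArg (Ideal.comap (algebraMap D D')) hz₂.over)⟩
    exact (IsLocalization.map_under (Submonoid.powers hZ) C' z₂).symm.trans (congrArg (Ideal.map (algebraMap C C')) h1)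
  · exact DevissLib.purelyTranscendental_of_bijective (p := p) (p' := p') (P := y) (y := y')
      (DevissLib.residue_bijective_of_frac p p' ((DevLib.fracMod_refl p).away g hg))
      (DevissLib.residue_bijective_of_frac y y' ((DevLib.fracMod_refl y).away hY hYy)) h4

end Groth.Agent.DevBCLib
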